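import Cfsg.Agent.H6.SF23.D
set_option maxRecDepth 100000
set_option Elab.async false
set_option linter.unusedSectionVars false
namespace H6M.SF23
open H0 BN 
theorem c231 : cycB R (subst [[57]] [0]) [2805, 10112, 14954, 26572, 18042, 1477, 17545, 17125, 20380, 6320, 1, 0] = true := by decide +kernel
theorem c232 : allL (leafB R p17OT (subst [[57]] [0]) [7, 8, 9, 10, 11] [2805, 10112, 14954, 26572, 18042, 1477, 17545, 17125, 20380, 6320, 1, 0] [] []) p17L232 = true := by decide +kernel
theorem c233 : allL (leafB R p17OT (subst [[57]] [0]) [7, 8, 9, 10, 11] [2805, 10112, 14954, 26572, 18042, 1477, 17545, 17125, 20380, 6320, 1, 0] [] []) p17L233 = true := by decide +kernel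
theorem c234 : allL (leafB R p17OT (subst [[57]] [0]) [7, 8, 9, 10, 11] [2805, 10112, 14954, 26572, 18042, 1477, 17545, 17125, 20380, 6320, 1, 0] [] []) p17L234 = true := by decide +kernel
theorem c235 : allL (leafB R p17OT (subst [[57]] [0]) [7, 8, 9, 10, 11] [2805, 10112, 14954, 26572, 18042, 1477, 17545, 17125, 20380, 6320, 1, 0] [] []) p17L235 = true := by decide +kernel
theorem c236 : allL (leafB R p17OT (subst [[57]] [0]) [7, 8, 9, 10, 11] [2805, 10112, 14954, 26572, 18042, 1477, 17545, 17125, 20380, 6320, 1, 0] [] []) p17L236 = true := by decide +kernel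
theorem c237 : allL (leafB R p17OT (subst [[57]] [0]) [7, 8, 9, 10, 11] [2805, 10112, 14954, 26572, 18042, 1477, 17545, 17125, 20380, 6320, 1, 0] [] []) p17L237 = true := by decide +kernel
theorem c238 : allL (leafB R p17OT (subst [[57]] [0]) [7, 8, 9, 10, 11] [2805, 10112, 14954, 26572, 18042, 1477, 17545, 17125, 20380, 6320, 1, 0] [] []) p17L238 = true := by decide +kernel
theorem c239 : allL (leafB R p17OT (subst [[57]] [0]) [7, 8, 9, 10, 11] [2805, 10112, 14954, 26572, 18042, 1477, 17545, 17125, 20380, 6320, 1, 0] [] []) p17L239 = true := by decide +kernel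
theorem c240 : allL (leafB R p17OT (subst [[57]] [0]) [7, 8, 9, 10, 11] [2805, 10112, 14954, 26572, 18042, 1477, 17545, 17125, 20380, 6320, 1, 0] [] []) p17L240 = true := by decide +kernel
theorem c241 : allL (leafB R p17OT (subst [[57]] [0]) [7, 8, 9, 10, 11] [2805, 10112, 14954, 26572, 18042, 1477, 17545, 17125, 20380, 6320, 1, 0] [] []) p17L241 = true := by decide +kernel
theorem c242 : allL (leafB R p17OT (subst [[57]] [0]) [7, 8, 9, 10, 11] [2805, 10112, 14954, 26572, 18042, 1477, 17545, 17125, 20380, 6320, 1, 0] [] []) p17L242 = true := by decide +kernel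
theorem c243 : allL (leafB R p17OT (subst [[57]] [0]) [7, 8, 9, 10, 11] [2805, 10112, 14954, 26572, 18042, 1477, 17545, 17125, 20380, 6320, 1, 0] [] []) p17L243 = true := by decide +kernel
theorem c244 : allL (leafB R p17OT (subst [[57]] [0]) [7, 8, 9, 10, 11] [2805, 10112, 14954, 26572, 18042, 1477, 17545, 17125, 20380, 6320, 1, 0] [] []) p17L244 = true := by decide +kernel
theorem c245 : allL (leafB R p17OT (subst [[57]] [0]) [7, 8, 9, 10, 11] [2805, 10112, 14954, 26572, 18042, 1477, 17545, 17125, 20380, 6320, 1, 0] [] []) p17L245 = true := by decide +kernel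
theorem c246 : allL (leafB R p17OT (subst [[57]] [0]) [7, 8, 9, 10, 11] [2805, 10112, 14954, 26572, 18042, 1477, 17545, 17125, 20380, 6320, 1, 0] [] []) p17L246 = true := by decide +kernel
theorem c247 : allL (leafB R p17OT (subst [[57]] [0]) [7, 8, 9, 10, 11] [2805, 10112, 14954, 26572, 18042, 1477, 17545, 17125, 20380, 6320, 1, 0] [] []) p17L247 = true := by decide +kernel
theorem c248 : allL (leafB R p17OT (subst [[57]] [0]) [7, 8, 9, 10, 11] [2805, 10112, 14954, 26572, 18042, 1477, 17545, 17125, 20380, 6320, 1, 0] [] []) p17L248 = true := by decide +kernel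
theorem c249 : allL (leafB R p17OT (subst [[57]] [0]) [7, 8, 9, 10, 11] [2805, 10112, 14954, 26572, 18042, 1477, 17545, 17125, 20380, 6320, 1, 0] [] []) p17L249 = true := by decide +kernel
theorem c250 : allL (leafB R p17OT (subst [[57]] [0]) [7, 8, 9, 10, 11] [2805, 10112, 14954, 26572, 18042, 1477, 17545, 17125, 20380, 6320, 1, 0] [] []) p17L250 = true := by decide +kernel
theorem c251 : allL (leafB R p17OT (subst [[57]] [0]) [7, 8, 9, 10, 11] [2805, 10112, 14954, 26572, 18042, 1477, 17545, 17125, 20380, 6320, 1, 0] [] []) p17L251 = true := by decide +kernel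
theorem c252 : allL (leafB R p17OT (subst [[57]] [0]) [7, 8, 9, 10, 11] [2805, 10112, 14954, 26572, 18042, 1477, 17545, 17125, 20380, 6320, 1, 0] [] []) p17L252 = true := by decide +kernel
theorem c253 : allL (leafB R p17OT (subst [[57]] [0]) [7, 8, 9, 10, 11] [2805, 10112, 14954, 26572, 18042, 1477, 17545, 17125, 20380, 6320, 1, 0] [] []) p17L253 = true := by decide +kernel
theorem c254 : allL (leafB R p17OT (subst [[57]] [0]) [7, 8, 9, 10, 11] [2805, 10112, 14954, 26572, 18042, 1477, 17545, 17125, 20380, 6320, 1, 0] [] []) p17L254 = true := by decide +kernel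
theorem c255 : allL (leafB R p17OT (subst [[57]] [0]) [7, 8, 9, 10, 11] [2805, 10112, 14954, 26572, 18042, 1477, 17545, 17125, 20380, 6320, 1, 0] [] []) p17L255 = true := by decide +kernel
theorem c256 : allL (leafB R p17OT (subst [[57]] [0]) [7, 8, 9, 10, 11] [2805, 10112, 14954, 26572, 18042, 1477, 17545, 17125, 20380, 6320, 1, 0] [] []) p17L256 = true := by decide +kernel
theorem c257 : allL (leafB R p17OT (subst [[57]] [0]) [7, 8, 9, 10, 11] [2805, 10112, 14954, 26572, 18042, 1477, 17545, 17125, 20380, 6320, 1, 0] [] []) p17L257 = true := by decide +kernel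
theorem c258 : allL (leafB R p17OT (subst [[57]] [0]) [7, 8, 9, 10, 11] [2805, 10112, 14954, 26572, 18042, 1477, 17545, 17125, 20380, 6320, 1, 0] [] []) p17L258 = true := by decide +kernel
theorem c259 : allL (leafB R p17OT (subst [[57]] [0]) [7, 8, 9, 10, 11] [2805, 10112, 14954, 26572, 18042, 1477, 17545, 17125, 20380, 6320, 1, 0] [] []) p17L259 = true := by decide +kernel
theorem c260 : allL (leafB R p17OT (subst [[57]] [0]) [7, 8, 9, 10, 11] [2805, 10112, 14954, 26572, 18042, 1477, 17545, 17125, 20380, 6320, 1, 0] [] []) p17L260 = true := by decide +kernel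
theorem c261 : allL (leafB R p17OT (subst [[57]] [0]) [7, 8, 9, 10, 11] [2805, 10112, 14954, 26572, 18042, 1477, 17545, 17125, 20380, 6320, 1, 0] [] []) p17L261 = true := by decide +kernel
theorem c262 : allL (leafB R p17OT (subst [[57]] [0]) [7, 8, 9, 10, 11] [2805, 10112, 14954, 26572, 18042, 1477, 17545, 17125, 20380, 6320, 1, 0] [] []) p17L262 = true := by decide +kernel
theorem c263 : allL (leafB R p17OT (subst [[57]] [0]) [7, 8, 9, 10, 11] [2805, 10112, 14954, 26572, 18042, 1477, 17545, 17125, 20380, 6320, 1, 0] [] []) p17L263 = true := by decide +kernel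
theorem c264 : allL (leafB R p17OT (subst [[57]] [0]) [7, 8, 9, 10, 11] [2805, 10112, 14954, 26572, 18042, 1477, 17545, 17125, 20380, 6320, 1, 0] [] []) p17L264 = true := by decide +kernel
theorem c265 : allL (leafB R p17OT (subst [[57]] [0]) [7, 8, 9, 10, 11] [2805, 10112, 14954, 26572, 18042, 1477, 17545, 17125, 20380, 6320, 1, 0] [] []) p17L265 = true := by decide +kernel
theorem c266 : allL (leafB R p17OT (subst [[57]] [0]) [7, 8, 9, 10, 11] [2805, 10112, 14954, 26572, 18042, 1477, 17545, 17125, 20380, 6320, 1, 0] [] []) p17L266 = true := by decide +kernel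
theorem c267 : allL (leafB R p17OT (subst [[57]] [0]) [7, 8, 9, 10, 11] [2805, 10112, 14954, 26572, 18042, 1477, 17545, 17125, 20380, 6320, 1, 0] [] []) p17L267 = true := by decide +kernel
theorem c268 : allL (leafB R p17OT (subst [[57]] [0]) [7, 8, 9, 10, 11] [2805, 10112, 14954, 26572, 18042, 1477, 17545, 17125, 20380, 6320, 1, 0] [] []) p17L268 = true := by decide +kernel
theorem c269 : allL (leafB R p17OT (subst [[57]] [0]) [7, 8, 9, 10, 11] [2805, 10112, 14954, 26572, 18042, 1477, 17545, 17125, 20380, 6320, 1, 0] [] []) p17L269 = true := by decide +kernel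
theorem c270 : allL (leafB R p17OT (subst [[57]] [0]) [7, 8, 9, 10, 11] [2805, 10112, 14954, 26572, 18042, 1477, 17545, 17125, 20380, 6320, 1, 0] [] []) p17L270 = true := by decide +kernel
theorem c271 : allL (leafB R p17OT (subst [[57]] [0]) [7, 8, 9, 10, 11] [2805, 10112, 14954, 26572, 18042, 1477, 17545, 17125, 20380, 6320, 1, 0] [] []) p17L271 = true := by decide +kernel
theorem c272 : allL (leafB R p17OT (subst [[57]] [0]) [7, 8, 9, 10, 11] [2805, 10112, 14954, 26572, 18042, 1477, 17545, 17125, 20380, 6320, 1, 0] [] []) p17L272 = true := by decide +kernel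
theorem c273 : allL (leafB R p17OT (subst [[57]] [0]) [7, 8, 9, 10, 11] [2805, 10112, 14954, 26572, 18042, 1477, 17545, 17125, 20380, 6320, 1, 0] [] []) p17L273 = true := by decide +kernel
theorem c274 : allL (leafB R p17OT (subst [[57]] [0]) [7, 8, 9, 10, 11] [2805, 10112, 14954, 26572, 18042, 1477, 17545, 17125, 20380, 6320, 1, 0] [] []) p17L274 = true := by decide +kernel
theorem c275 : allL (leafB R p17OT (subst [[57]] [0]) [7, 8, 9, 10, 11] [2805, 10112, 14954, 26572, 18042, 1477, 17545, 17125, 20380, 6320, 1, 0] [] []) p17L275 = true := by decide +kernel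
theorem c276 : allL (leafB R p17OT (subst [[57]] [0]) [7, 8, 9, 10, 11] [2805, 10112, 14954, 26572, 18042, 1477, 17545, 17125, 20380, 6320, 1, 0] [] []) p17L276 = true := by decide +kernel
theorem c277 : allL (leafB R p17OT (subst [[57]] [0]) [7, 8, 9, 10, 11] [2805, 10112, 14954, 26572, 18042, 1477, 17545, 17125, 20380, 6320, 1, 0] [] []) p17L277 = true := by decide +kernel
theorem c278 : allL (leafB R p17OT (subst [[57]] [0]) [7, 8, 9, 10, 11] [2805, 10112, 14954, 26572, 18042, 1477, 17545, 17125, 20380, 6320, 1, 0] [] []) p17L278 = true := by decide +kernel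
theorem c279 : allL (leafB R p17OT (subst [[57]] [0]) [7, 8, 9, 10, 11] [2805, 10112, 14954, 26572, 18042, 1477, 17545, 17125, 20380, 6320, 1, 0] [] []) p17L279 = true := by decide +kernel
theorem c280 : allL (leafB R p17OT (subst [[57]] [0]) [7, 8, 9, 10, 11] [2805, 10112, 14954, 26572, 18042, 1477, 17545, 17125, 20380, 6320, 1, 0] [] []) p17L280 = true := by decide +kernel
theorem c281 : allL (leafB R p17OT (subst [[57]] [0]) [7, 8, 9, 10, 11] [2805, 10112, 14954, 26572, 18042, 1477, 17545, 17125, 20380, 6320, 1, 0] [] []) p17L281 = true := by decide +kernel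
theorem c282 : allL (leafB R p17OT (subst [[57]] [0]) [7, 8, 9, 10, 11] [2805, 10112, 14954, 26572, 18042, 1477, 17545, 17125, 20380, 6320, 1, 0] [] []) p17L282 = true := by decide +kernel
theorem c283 : allL (leafB R p17OT (subst [[57]] [0]) [7, 8, 9, 10, 11] [2805, 10112, 14954, 26572, 18042, 1477, 17545, 17125, 20380, 6320, 1, 0] [] []) p17L283 = true := by decide +kernel
theorem c284 : allL (leafB R p17OT (subst [[57]] [0]) [7, 8, 9, 10, 11] [2805, 10112, 14954, 26572, 18042, 1477, 17545, 17125, 20380, 6320, 1, 0] [] []) p17L284 = true := by decide +kernel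
theorem c285 : allL (leafB R p17OT (subst [[57]] [0]) [7, 8, 9, 10, 11] [2805, 10112, 14954, 26572, 18042, 1477, 17545, 17125, 20380, 6320, 1, 0] [] []) p17L285 = true := by decide +kernel
theorem c286 : allL (leafB R p17OT (subst [[57]] [0]) [7, 8, 9, 10, 11] [2805, 10112, 14954, 26572, 18042, 1477, 17545, 17125, 20380, 6320, 1, 0] [] []) p17L286 = true := by decide +kernel
theorem c287 : allL (leafB R p17OT (subst [[57]] [0]) [7, 8, 9, 10, 11] [2805, 10112, 14954, 26572, 18042, 1477, 17545, 17125, 20380, 6320, 1, 0] [] []) p17L287 = true := by decide +kernel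
theorem c288 : allL (leafB R p17OT (subst [[57]] [0]) [7, 8, 9, 10, 11] [2805, 10112, 14954, 26572, 18042, 1477, 17545, 17125, 20380, 6320, 1, 0] [] []) p17L288 = true := by decide +kernel
theorem c289 : allL (leafB R p17OT (subst [[57]] [0]) [7, 8, 9, 10, 11] [2805, 10112, 14954, 26572, 18042, 1477, 17545, 17125, 20380, 6320, 1, 0] [] []) p17L289 = true := by decide +kernel
theorem c290 : allL (leafB R p17OT (subst [[57]] [0]) [7, 8, 9, 10, 11] [2805, 10112, 14954, 26572, 18042, 1477, 17545, 17125, 20380, 6320, 1, 0] [] []) p17L290 = true := by decide +kernel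
theorem c291 : allL (leafB R p17OT (subst [[57]] [0]) [7, 8, 9, 10, 11] [2805, 10112, 14954, 26572, 18042, 1477, 17545, 17125, 20380, 6320, 1, 0] [] []) p17L291 = true := by decide +kernel
theorem c292 : allL (leafB R p17OT (subst [[57]] [0]) [7, 8, 9, 10, 11] [2805, 10112, 14954, 26572, 18042, 1477, 17545, 17125, 20380, 6320, 1, 0] [] []) p17L292 = true := by decide +kernel
theorem c293 : allL (leafB R p17OT (subst [[57]] [0]) [7, 8, 9, 10, 11] [2805, 10112, 14954, 26572, 18042, 1477, 17545, 17125, 20380, 6320, 1, 0] [] []) p17L293 = true := by decide +kernel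
theorem c294 : allL (leafB R p17OT (subst [[57]] [0]) [7, 8, 9, 10, 11] [2805, 10112, 14954, 26572, 18042, 1477, 17545, 17125, 20380, 6320, 1, 0] [] []) p17L294 = true := by decide +kernel
theorem c295 : allL (leafB R p17OT (subst [[57]] [0]) [7, 8, 9, 10, 11] [2805, 10112, 14954, 26572, 18042, 1477, 17545, 17125, 20380, 6320, 1, 0] [] []) p17L295 = true := by decide +kernel
theorem c296 : allL (leafB R p17OT (subst [[57]] [0]) [7, 8, 9, 10, 11] [2805, 10112, 14954, 26572, 18042, 1477, 17545, 17125, 20380, 6320, 1, 0] [] []) p17L296 = true := by decide +kernel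
theorem c297 : allL (leafB R p17OT (subst [[57]] [0]) [7, 8, 9, 10, 11] [2805, 10112, 14954, 26572, 18042, 1477, 17545, 17125, 20380, 6320, 1, 0] [] []) p17L297 = true := by decide +kernel
theorem c298 : allL (leafB R p17OT (subst [[57]] [0]) [7, 8, 9, 10, 11] [2805, 10112, 14954, 26572, 18042, 1477, 17545, 17125, 20380, 6320, 1, 0] [] []) p17L298 = true := by decide +kernel
theorem c299 : allL (leafB R p17OT (subst [[57]] [0]) [7, 8, 9, 10, 11] [2805, 10112, 14954, 26572, 18042, 1477, 17545, 17125, 20380, 6320, 1, 0] [] []) p17L299 = true := by decide +kernel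
theorem c300 : allL (leafB R p17OT (subst [[57]] [0]) [7, 8, 9, 10, 11] [2805, 10112, 14954, 26572, 18042, 1477, 17545, 17125, 20380, 6320, 1, 0] [] []) p17L300 = true := by decide +kernel
theorem c301 : allL (leafB R p17OT (subst [[57]] [0]) [7, 8, 9, 10, 11] [2805, 10112, 14954, 26572, 18042, 1477, 17545, 17125, 20380, 6320, 1, 0] [] []) p17L301 = true := by decide +kernel
theorem c302 : allL (leafB R p17OT (subst [[57]] [0]) [7, 8, 9, 10, 11] [2805, 10112, 14954, 26572, 18042, 1477, 17545, 17125, 20380, 6320, 1, 0] [] []) p17L302 = true := by decide +kernel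
theorem c303 : allL (leafB R p17OT (subst [[57]] [0]) [7, 8, 9, 10, 11] [2805, 10112, 14954, 26572, 18042, 1477, 17545, 17125, 20380, 6320, 1, 0] [] []) p17L303 = true := by decide +kernel
theorem c304 : allL (leafB R p17OT (subst [[57]] [0]) [7, 8, 9, 10, 11] [2805, 10112, 14954, 26572, 18042, 1477, 17545, 17125, 20380, 6320, 1, 0] [] []) p17L304 = true := by decide +kernel
theorem c305 : allL (leafB R p17OT (subst [[57]] [0]) [7, 8, 9, 10, 11] [2805, 10112, 14954, 26572, 18042, 1477, 17545, 17125, 20380, 6320, 1, 0] [] []) p17L305 = true := by decide +kernel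
theorem c306 : allL (leafB R p17OT (subst [[57]] [0]) [7, 8, 9, 10, 11] [2805, 10112, 14954, 26572, 18042, 1477, 17545, 17125, 20380, 6320, 1, 0] [] []) p17L306 = true := by decide +kernel
end H6M.SF23
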