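import Cfsg.Agent.H6.SF23.D
set_option maxRecDepth 100000
set_option Elab.async false
set_option linter.unusedSectionVars false
namespace H6M.SF23
open H0 BN 
theorem c307 : allL (leafB R p17OT (subst [[57]] [0]) [7, 8, 9, 10, 11] [2805, 10112, 14954, 26572, 18042, 1477, 17545, 17125, 20380, 6320, 1, 0] [] []) p17L307 = true := by decide +kernel
theorem c308 : allL (leafB R p17OT (subst [[57]] [0]) [7, 8, 9, 10, 11] [2805, 10112, 14954, 26572, 18042, 1477, 17545, 17125, 20380, 6320, 1, 0] [] []) p17L308 = true := by decide +kernel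
theorem c309 : allL (leafB R p17OT (subst [[57]] [0]) [7, 8, 9, 10, 11] [2805, 10112, 14954, 26572, 18042, 1477, 17545, 17125, 20380, 6320, 1, 0] [] []) p17L309 = true := by decide +kernel
theorem c310 : allL (leafB R p17OT (subst [[57]] [0]) [7, 8, 9, 10, 11] [2805, 10112, 14954, 26572, 18042, 1477, 17545, 17125, 20380, 6320, 1, 0] [] []) p17L310 = true := by decide +kernel
theorem c311 : allL (leafB R p17OT (subst [[57]] [0]) [7, 8, 9, 10, 11] [2805, 10112, 14954, 26572, 18042, 1477, 17545, 17125, 20380, 6320, 1, 0] [] []) p17L311 = true := by decide +kernel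
theorem c312 : allL (leafB R p17OT (subst [[57]] [0]) [7, 8, 9, 10, 11] [2805, 10112, 14954, 26572, 18042, 1477, 17545, 17125, 20380, 6320, 1, 0] [] []) p17L312 = true := by decide +kernel
theorem c313 : freeB R p17OT [[57]] p17Cg [] [] [] [] 0 0 [([], 0, 5)] [[0]] [0, 0, 0, 0, 0, 0, 0, 0, 0, 0, 0, 0, 0, 0, 0, 0] p17c313 = true := by decide +kernel
theorem c314 : Model.invB R (Model.cgens (p17ch.drop 0)) p17O5 = true := by decide +kernel
theorem c315 : Model.invB R (Model.cgens (p17ch.drop 3)) p17O4 = true := by decide +kernel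
theorem c316 : Model.invB R (Model.cgens (p17ch.drop 3)) p17O3 = true := by decide +kernel
theorem c317 : Model.invB R (Model.cgens (p17ch.drop 2)) p17O2 = true := by decide +kernel
theorem c318 : Model.invB R (Model.cgens (p17ch.drop 2)) p17O1 = true := by decide +kernel
theorem c319 : Model.invB R (Model.cgens (p17ch.drop 1)) p17O0 = true := by decide +kernel
theorem c320 : pairsB R [2, 20380, 6320, 1, 0] (((p17Cg.flatMap fun w => [[57]].map fun y => (w ++ y, y ++ w)).drop 0).take 1) = true := by decide +kernel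
theorem c321 : neB R [57] [] 0 1 0 = true := by decide +kernel
theorem c322 : pairsB R [2, 20380, 6320, 1, 0] ((r17E.drop 0).take 1) = true := by decide +kernel
theorem c323 : eqW R 0 5 [57] [11, 13, 12, 13, 13, 13, 12, 15, 15, 14, 14, 14, 15, 15, 18, 17, 18, 16, 18, 18, 16, 17, 16, 16] = true := by decide +kernel
theorem c324 : eqW R 5 5 [57] [11, 13, 12, 13, 13, 13, 12, 15, 15, 14, 14, 14, 15, 15, 18, 17, 18, 16, 18, 18, 16, 17, 16, 16] = true := by decide +kernel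
theorem c325 : eqW R 10 5 [57] [11, 13, 12, 13, 13, 13, 12, 15, 15, 14, 14, 14, 15, 15, 18, 17, 18, 16, 18, 18, 16, 17, 16, 16] = true := by decide +kernel
theorem c326 : eqW R 0 5 [56] [10, 11, 10, 10, 10, 10, 10, 11, 11, 10, 11, 11, 10, 11, 11, 12, 13, 13, 13, 12, 13, 12, 12, 13, 13, 12, 13, 13, 12, 12, 12, 14, 15, 14, 15, 14, 15, 14, 14, 14, 14, 14, 14, 14, 17, 17, 18, 18, 16, 20] = true := by decide +kernel
theorem c327 : eqW R 5 5 [56] [10, 11, 10, 10, 10, 10, 10, 11, 11, 10, 11, 11, 10, 11, 11, 12, 13, 13, 13, 12, 13, 12, 12, 13, 13, 12, 13, 13, 12, 12, 12, 14, 15, 14, 15, 14, 15, 14, 14, 14, 14, 14, 14, 14, 17, 17, 18, 18, 16, 20] = true := by decide +kernel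
theorem c328 : eqW R 10 5 [56] [10, 11, 10, 10, 10, 10, 10, 11, 11, 10, 11, 11, 10, 11, 11, 12, 13, 13, 13, 12, 13, 12, 12, 13, 13, 12, 13, 13, 12, 12, 12, 14, 15, 14, 15, 14, 15, 14, 14, 14, 14, 14, 14, 14, 17, 17, 18, 18, 16, 20] = true := by decide +kernel
theorem c329 : eqW R 0 5 [55] [10, 11, 11, 11, 11, 11, 10, 10, 10, 10, 10, 13, 13, 13, 13, 12, 13, 12, 12, 12, 13, 12, 12, 13, 13, 15, 14, 15, 15, 15, 15, 14, 14, 14, 15, 14, 15, 15, 15, 15, 14, 16, 18, 18, 17, 18, 16, 16, 21, 20, 19, 19] = true := by decide +kernel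
theorem c330 : eqW R 5 5 [55] [10, 11, 11, 11, 11, 11, 10, 10, 10, 10, 10, 13, 13, 13, 13, 12, 13, 12, 12, 12, 13, 12, 12, 13, 13, 15, 14, 15, 15, 15, 15, 14, 14, 14, 15, 14, 15, 15, 15, 15, 14, 16, 18, 18, 17, 18, 16, 16, 21, 20, 19, 19] = true := by decide +kernel
theorem c331 : eqW R 10 5 [55] [10, 11, 11, 11, 11, 11, 10, 10, 10, 10, 10, 13, 13, 13, 13, 12, 13, 12, 12, 12, 13, 12, 12, 13, 13, 15, 14, 15, 15, 15, 15, 14, 14, 14, 15, 14, 15, 15, 15, 15, 14, 16, 18, 18, 17, 18, 16, 16, 21, 20, 19, 19] = true := by decide +kernel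
theorem c332 : eqW R 0 5 [54] [11, 10, 11, 10, 10, 10, 11, 10, 11, 10, 10, 10, 10, 13, 13, 12, 12, 12, 12, 12, 13, 12, 12, 13, 13, 13, 15, 15, 14, 14, 15, 14, 14, 14, 14, 15, 15, 15, 14, 14, 14, 18, 18, 16, 16, 17, 17, 16, 21, 21, 20, 20, 19] = true := by decide +kernel
theorem c333 : eqW R 5 5 [54] [11, 10, 11, 10, 10, 10, 11, 10, 11, 10, 10, 10, 10, 13, 13, 12, 12, 12, 12, 12, 13, 12, 12, 13, 13, 13, 15, 15, 14, 14, 15, 14, 14, 14, 14, 15, 15, 15, 14, 14, 14, 18, 18, 16, 16, 17, 17, 16, 21, 21, 20, 20, 19] = true := by decide +kernel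
theorem c334 : eqW R 10 5 [54] [11, 10, 11, 10, 10, 10, 11, 10, 11, 10, 10, 10, 10, 13, 13, 12, 12, 12, 12, 12, 13, 12, 12, 13, 13, 13, 15, 15, 14, 14, 15, 14, 14, 14, 14, 15, 15, 15, 14, 14, 14, 18, 18, 16, 16, 17, 17, 16, 21, 21, 20, 20, 19] = true := by decide +kernel
theorem c335 : eqW R 0 5 [53] [50, 49, 49, 49, 49, 50, 49, 50, 49, 49, 50, 50, 49, 50, 50, 50, 50, 49, 49, 50, 49, 50, 50] = true := by decide +kernel
theorem c336 : eqW R 5 5 [53] [50, 49, 49, 49, 49, 50, 49, 50, 49, 49, 50, 50, 49, 50, 50, 50, 50, 49, 49, 50, 49, 50, 50] = true := by decide +kernel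
theorem c337 : eqW R 10 5 [53] [50, 49, 49, 49, 49, 50, 49, 50, 49, 49, 50, 50, 49, 50, 50, 50, 50, 49, 49, 50, 49, 50, 50] = true := by decide +kernel
theorem c338 : eqW R 0 5 [52] [49, 49, 49, 50, 50, 49, 50, 50, 50, 49, 49, 50, 50, 50, 50, 49, 50, 49, 50, 50, 49] = true := by decide +kernel
theorem c339 : eqW R 5 5 [52] [49, 49, 49, 50, 50, 49, 50, 50, 50, 49, 49, 50, 50, 50, 50, 49, 50, 49, 50, 50, 49] = true := by decide +kernel
theorem c340 : eqW R 10 5 [52] [49, 49, 49, 50, 50, 49, 50, 50, 50, 49, 49, 50, 50, 50, 50, 49, 50, 49, 50, 50, 49] = true := by decide +kernel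
theorem c341 : eqW R 0 5 [51] [49, 49, 50, 49, 49, 49, 49, 50, 49, 50, 50, 49, 50, 50, 49, 49, 49, 49, 50] = true := by decide +kernel
theorem c342 : eqW R 5 5 [51] [49, 49, 50, 49, 49, 49, 49, 50, 49, 50, 50, 49, 50, 50, 49, 49, 49, 49, 50] = true := by decide +kernel
theorem c343 : eqW R 10 5 [51] [49, 49, 50, 49, 49, 49, 49, 50, 49, 50, 50, 49, 50, 50, 49, 49, 49, 49, 50] = true := by decide +kernel
theorem c344 : eqW R 0 5 [50] [47, 48, 47, 48, 47, 48, 47, 47, 47, 47, 48, 47, 48, 48] = true := by decide +kernel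
theorem c345 : eqW R 5 5 [50] [47, 48, 47, 48, 47, 48, 47, 47, 47, 47, 48, 47, 48, 48] = true := by decide +kernel
theorem c346 : eqW R 10 5 [50] [47, 48, 47, 48, 47, 48, 47, 47, 47, 47, 48, 47, 48, 48] = true := by decide +kernel
theorem c347 : eqW R 0 5 [49] [47, 48, 48, 47, 48, 47, 47, 48, 47, 48, 48, 48, 47, 47] = true := by decide +kernel
theorem c348 : eqW R 5 5 [49] [47, 48, 48, 47, 48, 47, 47, 48, 47, 48, 48, 48, 47, 47] = true := by decide +kernel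
theorem c349 : eqW R 10 5 [49] [47, 48, 48, 47, 48, 47, 47, 48, 47, 48, 48, 48, 47, 47] = true := by decide +kernel
theorem c350 : eqW R 0 5 [48] [46, 45, 46, 46, 45, 46, 46, 46, 46, 45, 45] = true := by decide +kernel
theorem c351 : eqW R 5 5 [48] [46, 45, 46, 46, 45, 46, 46, 46, 46, 45, 45] = true := by decide +kernel
theorem c352 : eqW R 10 5 [48] [46, 45, 46, 46, 45, 46, 46, 46, 46, 45, 45] = true := by decide +kernel
theorem c353 : eqW R 0 5 [47] [45, 45, 46, 46, 46, 46, 45, 46, 45, 45, 45, 46, 46] = true := by decide +kernel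
theorem c354 : eqW R 5 5 [47] [45, 45, 46, 46, 46, 46, 45, 46, 45, 45, 45, 46, 46] = true := by decide +kernel
theorem c355 : eqW R 10 5 [47] [45, 45, 46, 46, 46, 46, 45, 46, 45, 45, 45, 46, 46] = true := by decide +kernel
theorem c356 : eqW R 0 5 [46] [24, 23, 23, 23, 23, 24, 23, 24, 24, 23, 24, 23, 24, 23, 24, 23] = true := by decide +kernel
theorem c357 : eqW R 5 5 [46] [24, 23, 23, 23, 23, 24, 23, 24, 24, 23, 24, 23, 24, 23, 24, 23] = true := by decide +kernel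
theorem c358 : eqW R 10 5 [46] [24, 23, 23, 23, 23, 24, 23, 24, 24, 23, 24, 23, 24, 23, 24, 23] = true := by decide +kernel
theorem c359 : eqW R 0 5 [45] [24, 23, 23, 23, 24, 24, 24, 24, 23, 23, 24, 24, 23, 24] = true := by decide +kernel
theorem c360 : eqW R 5 5 [45] [24, 23, 23, 23, 24, 24, 24, 24, 23, 23, 24, 24, 23, 24] = true := by decide +kernel
theorem c361 : eqW R 10 5 [45] [24, 23, 23, 23, 24, 24, 24, 24, 23, 23, 24, 24, 23, 24] = true := by decide +kernel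
theorem c362 : eqW R 0 5 [44] [10, 10, 11, 10, 10, 11, 10, 11, 10, 11, 11, 10, 12, 13, 12, 12, 13, 13, 13, 12, 13, 13, 12, 12, 15, 14, 14, 15, 15, 14, 15, 14, 15, 14, 15, 15, 14, 17, 17, 17, 17, 18, 17, 16, 17, 21, 20] = true := by decide +kernel
theorem c363 : eqW R 5 5 [44] [10, 10, 11, 10, 10, 11, 10, 11, 10, 11, 11, 10, 12, 13, 12, 12, 13, 13, 13, 12, 13, 13, 12, 12, 15, 14, 14, 15, 15, 14, 15, 14, 15, 14, 15, 15, 14, 17, 17, 17, 17, 18, 17, 16, 17, 21, 20] = true := by decide +kernel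
theorem c364 : eqW R 10 5 [44] [10, 10, 11, 10, 10, 11, 10, 11, 10, 11, 11, 10, 12, 13, 12, 12, 13, 13, 13, 12, 13, 13, 12, 12, 15, 14, 14, 15, 15, 14, 15, 14, 15, 14, 15, 15, 14, 17, 17, 17, 17, 18, 17, 16, 17, 21, 20] = true := by decide +kernel
theorem c365 : eqW R 0 5 [43] [11, 10, 10, 10, 11, 10, 11, 11, 11, 10, 11, 10, 13, 13, 13, 12, 13, 13, 12, 13, 12, 13, 13, 13, 12, 13, 15, 14, 14, 15, 14, 14, 14, 14, 14, 15, 15, 18, 16, 16, 17, 17, 18, 18, 21, 21, 20, 20, 19, 19] = true := by decide +kernel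
theorem c366 : eqW R 5 5 [43] [11, 10, 10, 10, 11, 10, 11, 11, 11, 10, 11, 10, 13, 13, 13, 12, 13, 13, 12, 13, 12, 13, 13, 13, 12, 13, 15, 14, 14, 15, 14, 14, 14, 14, 14, 15, 15, 18, 16, 16, 17, 17, 18, 18, 21, 21, 20, 20, 19, 19] = true := by decide +kernel
theorem c367 : eqW R 10 5 [43] [11, 10, 10, 10, 11, 10, 11, 11, 11, 10, 11, 10, 13, 13, 13, 12, 13, 13, 12, 13, 12, 13, 13, 13, 12, 13, 15, 14, 14, 15, 14, 14, 14, 14, 14, 15, 15, 18, 16, 16, 17, 17, 18, 18, 21, 21, 20, 20, 19, 19] = true := by decide +kernel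
theorem c368 : eqW R 0 5 [42] [39, 39, 39, 40, 39, 39, 40] = true := by decide +kernel
theorem c369 : eqW R 5 5 [42] [39, 39, 39, 40, 39, 39, 40] = true := by decide +kernel
theorem c370 : eqW R 10 5 [42] [39, 39, 39, 40, 39, 39, 40] = true := by decide +kernel
theorem c371 : eqW R 0 5 [41] [40, 40, 40, 40, 40, 39, 39, 39, 39, 39, 40] = true := by decide +kernel
theorem c372 : eqW R 5 5 [41] [40, 40, 40, 40, 40, 39, 39, 39, 39, 39, 40] = true := by decide +kernel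
theorem c373 : eqW R 10 5 [41] [40, 40, 40, 40, 40, 39, 39, 39, 39, 39, 40] = true := by decide +kernel
theorem c374 : eqW R 0 5 [40] [26, 25, 26, 26, 25, 26, 26, 26] = true := by decide +kernel
theorem c375 : eqW R 5 5 [40] [26, 25, 26, 26, 25, 26, 26, 26] = true := by decide +kernel
theorem c376 : eqW R 10 5 [40] [26, 25, 26, 26, 25, 26, 26, 26] = true := by decide +kernel
theorem c377 : eqW R 0 5 [39] [26, 25, 25, 25, 26, 25] = true := by decide +kernel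
theorem c378 : eqW R 5 5 [39] [26, 25, 25, 25, 26, 25] = true := by decide +kernel
theorem c379 : eqW R 10 5 [39] [26, 25, 25, 25, 26, 25] = true := by decide +kernel
theorem c380 : eqW R 0 5 [38] [11, 11, 11, 11, 11, 11, 12, 12, 13, 12, 12, 13, 12, 12, 12, 13, 12, 13, 15, 15, 15, 15, 15, 14, 14, 14, 14, 14, 14, 15, 14, 15, 14, 16, 17, 18, 16, 18, 17, 19, 19] = true := by decide +kernel
theorem c381 : eqW R 5 5 [38] [11, 11, 11, 11, 11, 11, 12, 12, 13, 12, 12, 13, 12, 12, 12, 13, 12, 13, 15, 15, 15, 15, 15, 14, 14, 14, 14, 14, 14, 15, 14, 15, 14, 16, 17, 18, 16, 18, 17, 19, 19] = true := by decide +kernel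
theorem c382 : eqW R 10 5 [38] [11, 11, 11, 11, 11, 11, 12, 12, 13, 12, 12, 13, 12, 12, 12, 13, 12, 13, 15, 15, 15, 15, 15, 14, 14, 14, 14, 14, 14, 15, 14, 15, 14, 16, 17, 18, 16, 18, 17, 19, 19] = true := by decide +kernel
theorem c383 : eqW R 0 5 [37] [10, 10, 10, 10, 11, 11, 13, 13, 13, 12, 12, 12, 13, 13, 13, 12, 13, 13, 13, 15, 15, 14, 14, 15, 14, 15, 14, 14, 15, 15, 17, 18, 16, 16, 17, 18, 16, 17, 19, 19] = true := by decide +kernel
theorem c384 : eqW R 5 5 [37] [10, 10, 10, 10, 11, 11, 13, 13, 13, 12, 12, 12, 13, 13, 13, 12, 13, 13, 13, 15, 15, 14, 14, 15, 14, 15, 14, 14, 15, 15, 17, 18, 16, 16, 17, 18, 16, 17, 19, 19] = true := by decide +kernel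
theorem c385 : eqW R 10 5 [37] [10, 10, 10, 10, 11, 11, 13, 13, 13, 12, 12, 12, 13, 13, 13, 12, 13, 13, 13, 15, 15, 14, 14, 15, 14, 15, 14, 14, 15, 15, 17, 18, 16, 16, 17, 18, 16, 17, 19, 19] = true := by decide +kernel
theorem c386 : eqW R 0 5 [36] [10, 11, 10, 11, 11, 11, 11, 10, 13, 13, 13, 12, 13, 12, 12, 12, 12, 12, 12, 12, 13, 13, 15, 15, 14, 14, 14, 15, 14, 15, 14, 15, 14, 14, 15, 14, 14, 15, 18, 17, 16, 17, 16, 16, 16, 17, 18, 21, 20] = true := by decide +kernel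
theorem c387 : eqW R 5 5 [36] [10, 11, 10, 11, 11, 11, 11, 10, 13, 13, 13, 12, 13, 12, 12, 12, 12, 12, 12, 12, 13, 13, 15, 15, 14, 14, 14, 15, 14, 15, 14, 15, 14, 14, 15, 14, 14, 15, 18, 17, 16, 17, 16, 16, 16, 17, 18, 21, 20] = true := by decide +kernel
theorem c388 : eqW R 10 5 [36] [10, 11, 10, 11, 11, 11, 11, 10, 13, 13, 13, 12, 13, 12, 12, 12, 12, 12, 12, 12, 13, 13, 15, 15, 14, 14, 14, 15, 14, 15, 14, 15, 14, 14, 15, 14, 14, 15, 18, 17, 16, 17, 16, 16, 16, 17, 18, 21, 20] = true := by decide +kernel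
theorem c389 : eqW R 0 5 [35] [10, 11, 11, 10, 11, 11, 10, 11, 11, 10, 10, 10, 11, 11, 11, 11, 12, 12, 12, 12, 12, 12, 13, 12, 12, 13, 12, 13, 13, 13, 12, 15, 15, 15, 14, 15, 15, 15, 14, 15, 15, 14, 15, 15, 14, 14, 18, 17, 16, 17, 17, 18, 16, 18, 17, 21, 21, 19] = true := by decide +kernel
theorem c390 : eqW R 5 5 [35] [10, 11, 11, 10, 11, 11, 10, 11, 11, 10, 10, 10, 11, 11, 11, 11, 12, 12, 12, 12, 12, 12, 13, 12, 12, 13, 12, 13, 13, 13, 12, 15, 15, 15, 14, 15, 15, 15, 14, 15, 15, 14, 15, 15, 14, 14, 18, 17, 16, 17, 17, 18, 16, 18, 17, 21, 21, 19] = true := by decide +kernel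
theorem c391 : eqW R 10 5 [35] [10, 11, 11, 10, 11, 11, 10, 11, 11, 10, 10, 10, 11, 11, 11, 11, 12, 12, 12, 12, 12, 12, 13, 12, 12, 13, 12, 13, 13, 13, 12, 15, 15, 15, 14, 15, 15, 15, 14, 15, 15, 14, 15, 15, 14, 14, 18, 17, 16, 17, 17, 18, 16, 18, 17, 21, 21, 19] = true := by decide +kernel
theorem c392 : eqW R 0 5 [34] [11, 10, 11, 11, 11, 10, 11, 11, 11, 11, 11, 11, 10, 10, 10, 11, 11, 13, 12, 13, 12, 13, 13, 12, 13, 13, 13, 13, 12, 15, 14, 15, 15, 14, 15, 14, 14, 15, 14, 14, 14, 18, 16, 17, 18, 17, 18, 16, 16, 18, 21, 20, 19, 19] = true := by decide +kernel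
theorem c393 : eqW R 5 5 [34] [11, 10, 11, 11, 11, 10, 11, 11, 11, 11, 11, 11, 10, 10, 10, 11, 11, 13, 12, 13, 12, 13, 13, 12, 13, 13, 13, 13, 12, 15, 14, 15, 15, 14, 15, 14, 14, 15, 14, 14, 14, 18, 16, 17, 18, 17, 18, 16, 16, 18, 21, 20, 19, 19] = true := by decide +kernel
theorem c394 : eqW R 10 5 [34] [11, 10, 11, 11, 11, 10, 11, 11, 11, 11, 11, 11, 10, 10, 10, 11, 11, 13, 12, 13, 12, 13, 13, 12, 13, 13, 13, 13, 12, 15, 14, 15, 15, 14, 15, 14, 14, 15, 14, 14, 14, 18, 16, 17, 18, 17, 18, 16, 16, 18, 21, 20, 19, 19] = true := by decide +kernel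
theorem c395 : eqW R 0 5 [33] [11, 10, 10, 10, 10, 11, 11, 10, 10, 11, 11, 10, 11, 10, 11, 10, 13, 13, 12, 13, 12, 13, 13, 12, 12, 12, 13, 13, 13, 12, 13, 15, 14, 14, 14, 15, 14, 15, 14, 14, 14, 14, 15, 18, 16, 17, 18, 17, 17, 16, 20, 19] = true := by decide +kernel
theorem c396 : eqW R 5 5 [33] [11, 10, 10, 10, 10, 11, 11, 10, 10, 11, 11, 10, 11, 10, 11, 10, 13, 13, 12, 13, 12, 13, 13, 12, 12, 12, 13, 13, 13, 12, 13, 15, 14, 14, 14, 15, 14, 15, 14, 14, 14, 14, 15, 18, 16, 17, 18, 17, 17, 16, 20, 19] = true := by decide +kernel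
theorem c397 : eqW R 10 5 [33] [11, 10, 10, 10, 10, 11, 11, 10, 10, 11, 11, 10, 11, 10, 11, 10, 13, 13, 12, 13, 12, 13, 13, 12, 12, 12, 13, 13, 13, 12, 13, 15, 14, 14, 14, 15, 14, 15, 14, 14, 14, 14, 15, 18, 16, 17, 18, 17, 17, 16, 20, 19] = true := by decide +kernel
theorem c398 : eqW R 0 5 [32] [10, 11, 10, 10, 13, 12, 12, 12, 12, 13, 13, 12, 12, 13, 12, 12, 12, 13, 15, 15, 14, 14, 15, 15, 14, 14, 14, 14, 14, 14, 14, 17, 17, 16, 17, 16, 17, 17, 17, 18, 19] = true := by decide +kernel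
theorem c399 : eqW R 5 5 [32] [10, 11, 10, 10, 13, 12, 12, 12, 12, 13, 13, 12, 12, 13, 12, 12, 12, 13, 15, 15, 14, 14, 15, 15, 14, 14, 14, 14, 14, 14, 14, 17, 17, 16, 17, 16, 17, 17, 17, 18, 19] = true := by decide +kernel
theorem c400 : eqW R 10 5 [32] [10, 11, 10, 10, 13, 12, 12, 12, 12, 13, 13, 12, 12, 13, 12, 12, 12, 13, 15, 15, 14, 14, 15, 15, 14, 14, 14, 14, 14, 14, 14, 17, 17, 16, 17, 16, 17, 17, 17, 18, 19] = true := by decide +kernel
theorem c401 : eqW R 0 5 [31] [11, 11, 11, 11, 11, 11, 13, 12, 13, 12, 13, 13, 13, 13, 12, 15, 14, 15, 15, 14, 15, 15, 15, 15, 14, 14, 16, 18, 17, 17, 16, 18, 16, 18, 21, 20, 20, 19] = true := by decide +kernel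
theorem c402 : eqW R 5 5 [31] [11, 11, 11, 11, 11, 11, 13, 12, 13, 12, 13, 13, 13, 13, 12, 15, 14, 15, 15, 14, 15, 15, 15, 15, 14, 14, 16, 18, 17, 17, 16, 18, 16, 18, 21, 20, 20, 19] = true := by decide +kernel
theorem c403 : eqW R 10 5 [31] [11, 11, 11, 11, 11, 11, 13, 12, 13, 12, 13, 13, 13, 13, 12, 15, 14, 15, 15, 14, 15, 15, 15, 15, 14, 14, 16, 18, 17, 17, 16, 18, 16, 18, 21, 20, 20, 19] = true := by decide +kernel
theorem c404 : eqW R 0 5 [30] [27, 27, 28, 27, 27, 28, 28, 28, 28, 27, 28, 27, 28, 27] = true := by decide +kernel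
theorem c405 : eqW R 5 5 [30] [27, 27, 28, 27, 27, 28, 28, 28, 28, 27, 28, 27, 28, 27] = true := by decide +kernel
theorem c406 : eqW R 10 5 [30] [27, 27, 28, 27, 27, 28, 28, 28, 28, 27, 28, 27, 28, 27] = true := by decide +kernel
theorem c407 : eqW R 0 5 [29] [27, 28, 28, 27, 28, 28, 28, 28, 28, 28, 28, 28, 27, 27, 27, 28] = true := by decide +kernel
theorem c408 : eqW R 5 5 [29] [27, 28, 28, 27, 28, 28, 28, 28, 28, 28, 28, 28, 27, 27, 27, 28] = true := by decide +kernel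
theorem c409 : eqW R 10 5 [29] [27, 28, 28, 27, 28, 28, 28, 28, 28, 28, 28, 28, 27, 27, 27, 28] = true := by decide +kernel
theorem c410 : eqW R 0 5 [28] [25, 26, 25, 26, 25, 25, 25, 26, 25, 25, 25, 26, 26, 26] = true := by decide +kernel
theorem c411 : eqW R 5 5 [28] [25, 26, 25, 26, 25, 25, 25, 26, 25, 25, 25, 26, 26, 26] = true := by decide +kernel
theorem c412 : eqW R 10 5 [28] [25, 26, 25, 26, 25, 25, 25, 26, 25, 25, 25, 26, 26, 26] = true := by decide +kernel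
theorem c413 : eqW R 0 5 [27] [26, 25, 25, 26, 25, 25, 25, 26, 25, 26] = true := by decide +kernel
theorem c414 : eqW R 5 5 [27] [26, 25, 25, 26, 25, 25, 25, 26, 25, 26] = true := by decide +kernel
theorem c415 : eqW R 10 5 [27] [26, 25, 25, 26, 25, 25, 25, 26, 25, 26] = true := by decide +kernel
theorem c416 : eqW R 0 5 [26] [24, 24, 23, 24, 24, 23, 24, 23, 23, 23, 24, 23, 23, 23, 24, 24, 23] = true := by decide +kernel
theorem c417 : eqW R 5 5 [26] [24, 24, 23, 24, 24, 23, 24, 23, 23, 23, 24, 23, 23, 23, 24, 24, 23] = true := by decide +kernel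
theorem c418 : eqW R 10 5 [26] [24, 24, 23, 24, 24, 23, 24, 23, 23, 23, 24, 23, 23, 23, 24, 24, 23] = true := by decide +kernel
theorem c419 : eqW R 0 5 [25] [23, 23, 24, 24, 23, 23, 23, 24, 24, 23, 24, 23, 23] = true := by decide +kernel
theorem c420 : eqW R 5 5 [25] [23, 23, 24, 24, 23, 23, 23, 24, 24, 23, 24, 23, 23] = true := by decide +kernel
theorem c421 : eqW R 10 5 [25] [23, 23, 24, 24, 23, 23, 23, 24, 24, 23, 24, 23, 23] = true := by decide +kernel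
theorem c422 : eqW R 0 5 [24] [10, 10, 10, 11, 10, 10, 10] = true := by decide +kernel
theorem c423 : eqW R 5 5 [24] [10, 10, 10, 11, 10, 10, 10] = true := by decide +kernel
theorem c424 : eqW R 10 5 [24] [10, 10, 10, 11, 10, 10, 10] = true := by decide +kernel
theorem c425 : eqW R 0 5 [23] [11, 11, 11, 11] = true := by decide +kernel
theorem c426 : eqW R 5 5 [23] [11, 11, 11, 11] = true := by decide +kernel
theorem c427 : eqW R 10 5 [23] [11, 11, 11, 11] = true := by decide +kernel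
end H6M.SF23
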