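import Cfsg.Agent.H6.SF23.K0
import Cfsg.Agent.H6.SF23.K1
import Cfsg.Agent.H6.SF23.K2
set_option maxRecDepth 100000
set_option Elab.async false
set_option linter.unusedSectionVars false
namespace H6M.SF23
open H0 BN 
theorem defs_ok : DefsOK R.p defs 23 := (defsOK_cons (eq_of_bits R (eqb_step R (eqb_step R (eqb_step R (eqb_zero R [23] [11, 11, 11, 11]) c425) c426) c427)) (by decide) (defsOK_cons (eq_of_bits R (eqb_step R (eqb_step R (eqb_step R (eqb_zero R [24] [10, 10, 10, 11, 10, 10, 10]) c422) c423) c424)) (by decide) (defsOK_cons (eq_of_bits R (eqb_step R (eqb_step R (eqb_step R (eqb_zero R [25] [23, 23, 24, 24, 23, 23, 23, 24, 24, 23, 24, 23, 23]) c419) c420) c421)) (by decide) (defsOK_cons (eq_of_bits R (eqb_step R (eqb_step R (eqb_step R (eqb_zero R [26] [24, 24, 23, 24, 24, 23, 24, 23, 23, 23, 24, 23, 23, 23, 24, 24, 23]) c416) c417) c418)) (by decide) (defsOK_cons (eq_of_bits R (eqb_step R (eqb_step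 R (eqb_step R (eqb_zero R [27] [26, 25, 25, 26, 25, 25, 25, 26, 25, 26]) c413) c414) c415)) (by decide) (defsOK_cons (eq_of_bits R (eqb_step R (eqb_step R (eqb_step R (eqb_zero R [28] [25, 26, 25, 26, 25, 25, 25, 26, 25, 25, 25, 26, 26, 26]) c410) c411) c412)) (by decide) (defsOK_cons (eq_of_bits R (eqb_step R (eqb_step R (eqb_step R (eqb_zero R [29] [27, 28, 28, 27, 28, 28, 28, 28, 28, 28, 28, 28, 27, 27, 27, 28]) c407) c408) c409)) (by decide) (defsOK_cons (eq_of_bits R (eqb_step R (eqb_step R (eqb_step R (eqb_zero R [30] [27, 27, 28, 27, 27, 28, 28, 28, 28, 27, 28, 27, 28, 27]) c404) c405) c406)) (by decide) (defsOK_cons (eq_of_bits R (eqb_step R (eqb_step R (eqb_step R (eqb_zero R [31] [11, 11, 11, 11, 11, 11, 13, 12, 13, 12, 13, 13, 13, 13, 12, 15, 14, 15, 15, 14, 15, 15, 15, 15, 14, 14, 16, 18, 17, 17, 16, 18, 16, 18, 21, 20, 20, 19]) c401) c402) c403)) (by decide) (defsOK_cons (eq_of_bits R (eqb_step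 R (eqb_step R (eqb_step R (eqb_zero R [32] [10, 11, 10, 10, 13, 12, 12, 12, 12, 13, 13, 12, 12, 13, 12, 12, 12, 13, 15, 15, 14, 14, 15, 15, 14, 14, 14, 14, 14, 14, 14, 17, 17, 16, 17, 16, 17, 17, 17, 18, 19]) c398) c399) c400)) (by decide) (defsOK_cons (eq_of_bits R (eqb_step R (eqb_step R (eqb_step R (eqb_zero R [33] [11, 10, 10, 10, 10, 11, 11, 10, 10, 11, 11, 10, 11, 10, 11, 10, 13, 13, 12, 13, 12, 13, 13, 12, 12, 12, 13, 13, 13, 12, 13, 15, 14, 14, 14, 15, 14, 15, 14, 14, 14, 14, 15, 18, 16, 17, 18, 17, 17, 16, 20, 19]) c395) c396) c397)) (by decide) (defsOK_cons (eq_of_bits R (eqb_step R (eqb_step R (eqb_step R (eqb_zero R [34] [11, 10, 11, 11, 11, 10, 11, 11, 11, 11, 11, 11, 10, 10, 10, 11, 11, 13, 12, 13, 12, 13, 13, 12, 13, 13, 13, 13, 12, 15, 14, 15, 15, 14, 15, 14, 14, 15, 14, 14, 14, 18, 16, 17, 18, 17, 18, 16, 16, 18, 21, 20, 19, 19]) c392) c393) c394)) (by decide) (defsOK_cons (eq_of_bits R (eqb_step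 R (eqb_step R (eqb_step R (eqb_zero R [35] [10, 11, 11, 10, 11, 11, 10, 11, 11, 10, 10, 10, 11, 11, 11, 11, 12, 12, 12, 12, 12, 12, 13, 12, 12, 13, 12, 13, 13, 13, 12, 15, 15, 15, 14, 15, 15, 15, 14, 15, 15, 14, 15, 15, 14, 14, 18, 17, 16, 17, 17, 18, 16, 18, 17, 21, 21, 19]) c389) c390) c391)) (by decide) (defsOK_cons (eq_of_bits R (eqb_step R (eqb_step R (eqb_step R (eqb_zero R [36] [10, 11, 10, 11, 11, 11, 11, 10, 13, 13, 13, 12, 13, 12, 12, 12, 12, 12, 12, 12, 13, 13, 15, 15, 14, 14, 14, 15, 14, 15, 14, 15, 14, 14, 15, 14, 14, 15, 18, 17, 16, 17, 16, 16, 16, 17, 18, 21, 20]) c386) c387) c388)) (by decide) (defsOK_cons (eq_of_bits R (eqb_step R (eqb_step R (eqb_step R (eqb_zero R [37] [10, 10, 10, 10, 11, 11, 13, 13, 13, 12, 12, 12, 13, 13, 13, 12, 13, 13, 13, 15, 15, 14, 14, 15, 14, 15, 14, 14, 15, 15, 17, 18, 16, 16, 17, 18, 16, 17, 19, 19]) c383) c384) c385)) (by decide) (defsOK_cons (eq_of_bits R (eqb_step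 R (eqb_step R (eqb_step R (eqb_zero R [38] [11, 11, 11, 11, 11, 11, 12, 12, 13, 12, 12, 13, 12, 12, 12, 13, 12, 13, 15, 15, 15, 15, 15, 14, 14, 14, 14, 14, 14, 15, 14, 15, 14, 16, 17, 18, 16, 18, 17, 19, 19]) c380) c381) c382)) (by decide) (defsOK_cons (eq_of_bits R (eqb_step R (eqb_step R (eqb_step R (eqb_zero R [39] [26, 25, 25, 25, 26, 25]) c377) c378) c379)) (by decide) (defsOK_cons (eq_of_bits R (eqb_step R (eqb_step R (eqb_step R (eqb_zero R [40] [26, 25, 26, 26, 25, 26, 26, 26]) c374) c375) c376)) (by decide) (defsOK_cons (eq_of_bits R (eqb_step R (eqb_step R (eqb_step R (eqb_zero R [41] [40, 40, 40, 40, 40, 39, 39, 39, 39, 39, 40]) c371) c372) c373)) (by decide) (defsOK_cons (eq_of_bits R (eqb_step R (eqb_step R (eqb_step R (eqb_zero R [42] [39, 39, 39, 40, 39, 39, 40]) c368) c369) c370)) (by decide) (defsOK_cons (eq_of_bits R (eqb_step R (eqb_step R (eqb_step R (eqb_zero R [43] [11, 10, 10, 10, 11,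 10, 11, 11, 11, 10, 11, 10, 13, 13, 13, 12, 13, 13, 12, 13, 12, 13, 13, 13, 12, 13, 15, 14, 14, 15, 14, 14, 14, 14, 14, 15, 15, 18, 16, 16, 17, 17, 18, 18, 21, 21, 20, 20, 19, 19]) c365) c366) c367)) (by decide) (defsOK_cons (eq_of_bits R (eqb_step R (eqb_step R (eqb_step R (eqb_zero R [44] [10, 10, 11, 10, 10, 11, 10, 11, 10, 11, 11, 10, 12, 13, 12, 12, 13, 13, 13, 12, 13, 13, 12, 12, 15, 14, 14, 15, 15, 14, 15, 14, 15, 14, 15, 15, 14, 17, 17, 17, 17, 18, 17, 16, 17, 21, 20]) c362) c363) c364)) (by decide) (defsOK_cons (eq_of_bits R (eqb_step R (eqb_step R (eqb_step R (eqb_zero R [45] [24, 23, 23, 23, 24, 24, 24, 24, 23, 23, 24, 24, 23, 24]) c359) c360) c361)) (by decide) (defsOK_cons (eq_of_bits R (eqb_step R (eqb_step R (eqb_step R (eqb_zero R [46] [24, 23, 23, 23, 23, 24, 23, 24, 24, 23, 24, 23, 24, 23, 24, 23]) c356) c357) c358)) (by decide) (defsOK_cons (eq_of_bits R (eqb_step R (eqb_step R (eqb_step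 R (eqb_zero R [47] [45, 45, 46, 46, 46, 46, 45, 46, 45, 45, 45, 46, 46]) c353) c354) c355)) (by decide) (defsOK_cons (eq_of_bits R (eqb_step R (eqb_step R (eqb_step R (eqb_zero R [48] [46, 45, 46, 46, 45, 46, 46, 46, 46, 45, 45]) c350) c351) c352)) (by decide) (defsOK_cons (eq_of_bits R (eqb_step R (eqb_step R (eqb_step R (eqb_zero R [49] [47, 48, 48, 47, 48, 47, 47, 48, 47, 48, 48, 48, 47, 47]) c347) c348) c349)) (by decide) (defsOK_cons (eq_of_bits R (eqb_step R (eqb_step R (eqb_step R (eqb_zero R [50] [47, 48, 47, 48, 47, 48, 47, 47, 47, 47, 48, 47, 48, 48]) c344) c345) c346)) (by decide) (defsOK_cons (eq_of_bits R (eqb_step R (eqb_step R (eqb_step R (eqb_zero R [51] [49, 49, 50, 49, 49, 49, 49, 50, 49, 50, 50, 49, 50, 50, 49, 49, 49, 49, 50]) c341) c342) c343)) (by decide) (defsOK_cons (eq_of_bits R (eqb_step R (eqb_step R (eqb_step R (eqb_zero R [52] [49, 49, 49, 50, 50, 49, 50, 50, 50, 49, 49, 50, 50,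 50, 50, 49, 50, 49, 50, 50, 49]) c338) c339) c340)) (by decide) (defsOK_cons (eq_of_bits R (eqb_step R (eqb_step R (eqb_step R (eqb_zero R [53] [50, 49, 49, 49, 49, 50, 49, 50, 49, 49, 50, 50, 49, 50, 50, 50, 50, 49, 49, 50, 49, 50, 50]) c335) c336) c337)) (by decide) (defsOK_cons (eq_of_bits R (eqb_step R (eqb_step R (eqb_step R (eqb_zero R [54] [11, 10, 11, 10, 10, 10, 11, 10, 11, 10, 10, 10, 10, 13, 13, 12, 12, 12, 12, 12, 13, 12, 12, 13, 13, 13, 15, 15, 14, 14, 15, 14, 14, 14, 14, 15, 15, 15, 14, 14, 14, 18, 18, 16, 16, 17, 17, 16, 21, 21, 20, 20, 19]) c332) c333) c334)) (by decide) (defsOK_cons (eq_of_bits R (eqb_step R (eqb_step R (eqb_step R (eqb_zero R [55] [10, 11, 11, 11, 11, 11, 10, 10, 10, 10, 10, 13, 13, 13, 13, 12, 13, 12, 12, 12, 13, 12, 12, 13, 13, 15, 14, 15, 15, 15, 15, 14, 14, 14, 15, 14, 15, 15, 15, 15, 14, 16, 18, 18, 17, 18, 16, 16, 21, 20, 19, 19]) c329) c330) c331)) (by decide) (defsOK_cons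 (eq_of_bits R (eqb_step R (eqb_step R (eqb_step R (eqb_zero R [56] [10, 11, 10, 10, 10, 10, 10, 11, 11, 10, 11, 11, 10, 11, 11, 12, 13, 13, 13, 12, 13, 12, 12, 13, 13, 12, 13, 13, 12, 12, 12, 14, 15, 14, 15, 14, 15, 14, 14, 14, 14, 14, 14, 14, 17, 17, 18, 18, 16, 20]) c326) c327) c328)) (by decide) (defsOK_cons (eq_of_bits R (eqb_step R (eqb_step R (eqb_step R (eqb_zero R [57] [11, 13, 12, 13, 13, 13, 12, 15, 15, 14, 14, 14, 15, 15, 18, 17, 18, 16, 18, 18, 16, 17, 16, 16]) c323) c324) c325)) (by decide) (defsOK_nil _ _))))))))))))))))))))))))))))))))))))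
universe u
variable {G : Type u} [Group G] [Finite G] (m0 : Model G) (h0 : m0.R = H0.MFi23.R)
noncomputable def m : Model G := m0.ext (lg := nat_lit 15) (N := nat_lit 32768) (l := H0.MFi23.nl) h0 nl nl_ok 23 rfl defs defs_ok (by decide +kernel)
theorem mR : (m m0 h0).R = R := rfl
variable (hb : m0.pst [2, 20380, 6320, 1, 0] = ⊥) (hc : Nat.card G = 4089470473293004800)
include h0 hb hc
theorem base : (m m0 h0).pst [2, 20380, 6320, 1, 0] = ⊥ := hb
omit hb hc in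
theorem p5ch_ok : (m m0 h0).ChainOK p5ch [] := ((m m0 h0).chain_cons [0, 0, 1, 0, 1, 0, 1, 0, 1, 0, 1, 0, 1, 0, 1, 0, 1, 0, 1, 0, 1, 0, 1, 0, 1, 0, 1, 0] (Model.via _ (mR m0 h0) (fun R => Model.fixP R [] [[10], [11]]) c18) (Model.via _ (mR m0 h0) (fun R => Model.growP R [[10], [11]] [0, 0, 1, 0, 1, 0, 1, 0, 1, 0, 1, 0, 1, 0, 1, 0, 1, 0, 1, 0, 1, 0, 1, 0, 1, 0, 1, 0] 31670 31671) c19) ((m m0 h0).chain_cons [0, 1, 0, 1, 0, 1, 0, 1, 0, 1, 0, 1, 0, 1, 0, 1, 0, 1, 0, 1, 0, 1, 0, 1, 0, 1] (Model.via _ (mR m0 h0) (fun R => Model.fixP R [31670] [[23], [24]]) c16) (Model.via _ (mR m0 h0) (fun R => Model.growP R [[23], [24]] [0, 1, 0, 1, 0, 1, 0, 1, 0, 1, 0, 1, 0, 1, 0, 1, 0, 1, 0, 1, 0, 1, 0, 1, 0, 1] 31345 28160) c17) ((m m0 h0).chain_cons [0, 1, 0, 1, 0, 1, 0, 1, 0, 1, 0, 1, 0, 1, 0, 1, 0, 1, 0, 1] (Model.via _ (mR m0 h0) (fun R => Model.fixP R [31345, 31670] [[25], [26]]) c14) (Model.via _ (mR m0 h0) (fun R =>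 Model.growP R [[25], [26]] [0, 1, 0, 1, 0, 1, 0, 1, 0, 1, 0, 1, 0, 1, 0, 1, 0, 1, 0, 1] 31344 3159) c15) ((m m0 h0).chain_cons [0, 1, 0, 1, 0, 1, 0, 1, 0, 1, 0, 1, 0, 0, 1] (Model.via _ (mR m0 h0) (fun R => Model.fixP R [31344, 31345, 31670] [[27], [28]]) c12) (Model.via _ (mR m0 h0) (fun R => Model.growP R [[27], [28]] [0, 1, 0, 1, 0, 1, 0, 1, 0, 1, 0, 1, 0, 0, 1] 31517 288) c13) ((m m0 h0).chain_cons [0, 0, 0, 0, 0, 0] (Model.via _ (mR m0 h0) (fun R => Model.fixP R [31517, 31344, 31345, 31670] [[29], [30]]) c10) (Model.via _ (mR m0 h0) (fun R => Model.growP R [[29], [30]] [0, 0, 0, 0, 0, 0] 31341 7) c11) ((m m0 h0).chain_cons [0, 0, 0, 0, 0] (Model.via _ (mR m0 h0) (fun R => Model.fixP R [31341, 31517, 31344, 31345, 31670] [[29, 29, 29, 30], [30, 29, 29, 30], [29, 30, 29, 30]]) c8) (Model.via _ (mR m0 h0) (fun R => Model.growP R [[29, 29, 29, 30], [30, 29, 29, 30], [29, 30, 29, 30]] [0, 0, 0, 0, 0] 31346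 6) c9) ((m m0 h0).chain_cons [0, 1, 1, 0] (Model.via _ (mR m0 h0) (fun R => Model.fixP R [31346, 31341, 31517, 31344, 31345, 31670] [[29, 29, 30, 30], [30, 29, 30, 30], [29, 30, 30, 30]]) c6) (Model.via _ (mR m0 h0) (fun R => Model.growP R [[29, 29, 30, 30], [30, 29, 30, 30], [29, 30, 30, 30]] [0, 1, 1, 0] 56 5) c7) ((m m0 h0).chain_cons [0, 0, 0] (Model.via _ (mR m0 h0) (fun R => Model.fixP R [56, 31346, 31341, 31517, 31344, 31345, 31670] [[30, 29, 30, 30], [30, 30, 30, 30]]) c4) (Model.via _ (mR m0 h0) (fun R => Model.growP R [[30, 29, 30, 30], [30, 30, 30, 30]] [0, 0, 0] 31342 4) c5) ((m m0 h0).chain_cons [0, 0] (Model.via _ (mR m0 h0) (fun R => Model.fixP R [31342, 56, 31346, 31341, 31517, 31344, 31345, 31670] [[30, 30, 30, 30], [29, 29, 29, 29, 30, 29, 30, 29, 30, 29, 29, 29, 29]]) c2) (Model.via _ (mR m0 h0) (fun R => Model.growP R [[30, 30, 30, 30], [29, 29, 29, 29, 30, 29, 30, 29, 30, 29, 29, 29,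 29]] [0, 0] 28528 3) c3) ((m m0 h0).chain_cons [0] (Model.via _ (mR m0 h0) (fun R => Model.fixP R [28528, 31342, 56, 31346, 31341, 31517, 31344, 31345, 31670] [[30, 29, 30, 30, 29, 30, 29, 29, 29, 30, 30, 30, 29, 29]]) c0) (Model.via _ (mR m0 h0) (fun R => Model.growP R [[30, 29, 30, 30, 29, 30, 29, 29, 29, 30, 30, 30, 29, 29]] [0] 3528 2) c1) ((m m0 h0).chain_nil _)))))))))))
theorem p5top : gen (m m0 h0).g (Model.cgens p5ch) = ⊤ := (m m0 h0).chain_top (p5ch_ok m0 h0) (hc.trans (by decide +kernel))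
theorem p5bdd : (m m0 h0).Bdd := (m m0 h0).bdd_of_top (p5top m0 h0 hb hc)
theorem p5ot : (m m0 h0).OTOK p5OT := ((m m0 h0).otok_cons (p5ch_ok m0 h0) (hc.trans (by decide +kernel)) 6 rfl (Model.via _ (mR m0 h0) (fun R => Model.invB R (Model.cgens (p5ch.drop 6)) p5O0) c53) ((m m0 h0).otok_cons (p5ch_ok m0 h0) (hc.trans (by decide +kernel)) 5 rfl (Model.via _ (mR m0 h0) (fun R => Model.invB R (Model.cgens (p5ch.drop 5)) p5O1) c52) ((m m0 h0).otok_cons (p5ch_ok m0 h0) (hc.trans (by decide +kernel)) 4 rfl (Model.via _ (mR m0 h0) (fun R => Model.invB R (Model.cgens (p5ch.drop 4)) p5O2) c51) ((m m0 h0).otok_cons (p5ch_ok m0 h0) (hc.trans (by decide +kernel)) 3 rfl (Model.via _ (mR m0 h0) (fun R => Model.invB R (Model.cgens (p5ch.drop 3)) p5O3) c50) ((m m0 h0).otok_cons (p5ch_ok m0 h0) (hc.trans (by decide +kernel)) 2 rfl (Model.via _ (mR m0 h0) (fun R => Model.invB R (Model.cgens (p5ch.drop 2)) p5O4) c49) ((m m0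 h0).otok_cons (p5ch_ok m0 h0) (hc.trans (by decide +kernel)) 1 rfl (Model.via _ (mR m0 h0) (fun R => Model.invB R (Model.cgens (p5ch.drop 1)) p5O5) c48) ((m m0 h0).otok_cons (p5ch_ok m0 h0) (hc.trans (by decide +kernel)) 0 rfl (Model.via _ (mR m0 h0) (fun R => Model.invB R (Model.cgens (p5ch.drop 0)) p5O6) c47) (m m0 h0).otok_nil)))))))
theorem p5cm : ∀ w ∈ p5Cg, (m m0 h0).Cm [[31]] (ev (m m0 h0).g w) := (m m0 h0).cm_of_pairs (all_take_done (all_take_step (all_take_zero _ (p5Cg.flatMap fun w => [[31]].map fun y => (w ++ y, y ++ w))) ((m m0 h0).pairs_of (base m0 h0 hb hc) (Model.via _ (mR m0 h0) (fun R => pairsB R [2, 20380, 6320, 1, 0] (((p5Cg.flatMap fun w => [[31]].map fun y => (w ++ y, y ++ w)).drop 0).take 7)) c54))) (by decide +kernel))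
theorem p5n7 : (m m0 h0).Sol [[31]] p5Cg [3528, 28528, 31342, 56, 31346, 31341, 31517, 31344, 31345, 31670] [3528, 28528, 31342, 56, 31346, 31341, 31517, 31344, 31345, 31670] := (m m0 h0).sol_done [0, 1, 2, 3, 4, 5, 6, 7, 8, 9] (((m m0 h0).chain_bot (p5ch_ok m0 h0) (hc.trans (by decide +kernel))).le.trans bot_le) (by decide +kernel)
theorem p5n6 : (m m0 h0).Sol [[31]] p5Cg [31346, 31341, 31517, 31344, 31345, 31670] [31346, 31341, 31517, 31344, 31345, 31670] := (m m0 h0).sol_free (p5bdd m0 h0 hb hc) (p5cm m0 h0 hb hc) (p5ot m0 h0 hb hc) ((m m0 h0).excl_zero _ _) (Model.via _ (mR m0 h0) (fun R => freeB R p5OT [[31]] p5Cg [0, 1, 2, 3, 4, 5] [31346, 31341, 31517, 31344, 31345, 31670] [31346, 31341, 31517, 31344, 31345, 31670] [] 56 0 [([], 56, 0)] [[0]] [0, 0, 0, 0] p5c28) c28) ((m m0 h0).solL_cons ((m m0 h0).sol_cyc [0] (Bc := [3528, 28528, 31342, 56]) (T := [3528, 28528, 31342, 56]) rfl (Model.via _ (mR m0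 h0) (fun R => cycB R (subst [[31]] [0]) [3528, 28528, 31342, 56]) c26) (Model.via _ (mR m0 h0) (fun R => cycB R (subst [[31]] [0]) [3528, 28528, 31342, 56]) c27) (p5n7 m0 h0 hb hc)) (m m0 h0).solL_nil)
theorem p5n5 : (m m0 h0).Sol [[31]] p5Cg [31341, 31517, 31344, 31345, 31670] [31341, 31517, 31344, 31345, 31670] := (m m0 h0).sol_free (p5bdd m0 h0 hb hc) (p5cm m0 h0 hb hc) (p5ot m0 h0 hb hc) ((m m0 h0).excl_mov (p5bdd m0 h0 hb hc) [0] (Model.via _ (mR m0 h0) (fun R => exclB R (subst [[31]] [0]) 31346 p5D5) c30)) (Model.via _ (mR m0 h0) (fun R => freeB R p5OT [[31]] p5Cg [0, 1, 2, 3, 4] [31341, 31517, 31344, 31345, 31670] [31341, 31517, 31344, 31345, 31670] [] 31346 p5D5 [([], 31346, 1)] [[0]] [] p5c31) c31) ((m m0 h0).solL_cons ((m m0 h0).sol_cyc [] (Bc := [31346]) (T := [31346]) rfl (Model.via _ (mR m0 h0) (fun R => cycB R (subst [[31]] []) [31346]) c25) (Model.via _ (mR m0 h0) (fun R => cycB R (subst [[31]]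 []) [31346]) c29) (p5n6 m0 h0 hb hc)) (m m0 h0).solL_nil)
theorem p5n4 : (m m0 h0).Sol [[31]] p5Cg [31517, 31344, 31345, 31670] [31517, 31344, 31345, 31670] := (m m0 h0).sol_free (p5bdd m0 h0 hb hc) (p5cm m0 h0 hb hc) (p5ot m0 h0 hb hc) ((m m0 h0).excl_mov (p5bdd m0 h0 hb hc) [0] (Model.via _ (mR m0 h0) (fun R => exclB R (subst [[31]] [0]) 31341 p5D4) c33)) (Model.via _ (mR m0 h0) (fun R => freeB R p5OT [[31]] p5Cg [0, 1, 2, 3] [31517, 31344, 31345, 31670] [31517, 31344, 31345, 31670] [] 31341 p5D4 [([], 31341, 2)] [[0], [6]] [1] p5c34) c34) ((m m0 h0).solL_cons ((m m0 h0).sol_cyc [] (Bc := [31341]) (T := [31341]) rfl (Model.via _ (mR m0 h0) (fun R => cycB R (subst [[31]] []) [31341]) c24) (Model.via _ (mR m0 h0) (fun R => cycB R (subst [[31]] []) [31341]) c32) (p5n5 m0 h0 hb hc)) (m m0 h0).solL_nil)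
theorem p5n3 : (m m0 h0).Sol [[31]] p5Cg [31344, 31345, 31670] [31344, 31345, 31670] := (m m0 h0).sol_free (p5bdd m0 h0 hb hc) (p5cm m0 h0 hb hc) (p5ot m0 h0 hb hc) ((m m0 h0).excl_mov (p5bdd m0 h0 hb hc) [0] (Model.via _ (mR m0 h0) (fun R => exclB R (subst [[31]] [0]) 31517 p5D3) c36)) (Model.via _ (mR m0 h0) (fun R => freeB R p5OT [[31]] p5Cg [0, 1, 2] [31344, 31345, 31670] [31344, 31345, 31670] [] 31517 p5D3 [([], 31517, 3)] [[0], [5], [6]] [1, 2] p5c37) c37) ((m m0 h0).solL_cons ((m m0 h0).sol_cyc [] (Bc := [31517]) (T := [31517]) rfl (Model.via _ (mR m0 h0) (fun R => cycB R (subst [[31]] []) [31517]) c23) (Model.via _ (mR m0 h0) (fun R => cycB R (subst [[31]] []) [31517]) c35) (p5n4 m0 h0 hb hc)) (m m0 h0).solL_nil)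
theorem p5n2 : (m m0 h0).Sol [[31]] p5Cg [31345, 31670] [31345, 31670] := (m m0 h0).sol_free (p5bdd m0 h0 hb hc) (p5cm m0 h0 hb hc) (p5ot m0 h0 hb hc) ((m m0 h0).excl_mov (p5bdd m0 h0 hb hc) [0] (Model.via _ (mR m0 h0) (fun R => exclB R (subst [[31]] [0]) 31344 p5D2) c39)) (Model.via _ (mR m0 h0) (fun R => freeB R p5OT [[31]] p5Cg [0, 1] [31345, 31670] [31345, 31670] [] 31344 p5D2 [([], 31344, 4)] [[0], [4], [5], [6]] [1, 2, 3] p5c40) c40) ((m m0 h0).solL_cons ((m m0 h0).sol_cyc [] (Bc := [31344]) (T := [31344]) rfl (Model.via _ (mR m0 h0) (fun R => cycB R (subst [[31]] []) [31344]) c22) (Model.via _ (mR m0 h0) (fun R => cycB R (subst [[31]] []) [31344]) c38) (p5n3 m0 h0 hb hc)) (m m0 h0).solL_nil)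
theorem p5n1 : (m m0 h0).Sol [[31]] p5Cg [31670] [31670] := (m m0 h0).sol_free (p5bdd m0 h0 hb hc) (p5cm m0 h0 hb hc) (p5ot m0 h0 hb hc) ((m m0 h0).excl_mov (p5bdd m0 h0 hb hc) [0] (Model.via _ (mR m0 h0) (fun R => exclB R (subst [[31]] [0]) 31345 p5D1) c42)) (Model.via _ (mR m0 h0) (fun R => freeB R p5OT [[31]] p5Cg [0] [31670] [31670] [] 31345 p5D1 [([], 31345, 5)] [[0], [1], [3], [4], [5], [6]] [1, 2, 3, 4, 5] p5c43) c43) ((m m0 h0).solL_cons ((m m0 h0).sol_cyc [] (Bc := [31345]) (T := [31345]) rfl (Model.via _ (mR m0 h0) (fun R => cycB R (subst [[31]] []) [31345]) c21) (Model.via _ (mR m0 h0) (fun R => cycB R (subst [[31]] []) [31345]) c41) (p5n2 m0 h0 hb hc)) (m m0 h0).solL_nil)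
theorem p5n0 : (m m0 h0).Sol [[31]] p5Cg [] [] := (m m0 h0).sol_free (p5bdd m0 h0 hb hc) (p5cm m0 h0 hb hc) (p5ot m0 h0 hb hc) ((m m0 h0).excl_mov (p5bdd m0 h0 hb hc) [0] (Model.via _ (mR m0 h0) (fun R => exclB R (subst [[31]] [0]) 31670 p5D0) c45)) (Model.via _ (mR m0 h0) (fun R => freeB R p5OT [[31]] p5Cg [] [] [] [] 31670 p5D0 [([], 31670, 6)] [[0], [1], [2], [3], [4], [5], [6]] [2, 1, 3, 4, 2, 5, 6, 3, 4, 5] p5c46) c46) ((m m0 h0).solL_cons ((m m0 h0).sol_cyc [] (Bc := [31670]) (T := [31670]) rfl (Model.via _ (mR m0 h0) (fun R => cycB R (subst [[31]] []) [31670]) c20) (Model.via _ (mR m0 h0) (fun R => cycB R (subst [[31]] []) [31670]) c44) (p5n1 m0 h0 hb hc)) (m m0 h0).solL_nil)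
theorem p5sol : (m m0 h0).Sol [[31]] p5Cg [] [] := p5n0 m0 h0 hb hc
theorem ne5 : ev (m m0 h0).g [31] ≠ ev (m m0 h0).g [] := ((m m0 h0).ne_of_neB (Model.via _ (mR m0 h0) (fun R => neB R [31] [] 0 31343 0) c55))
theorem r5 : ∀ e ∈ r5E, ev (m m0 h0).g e.1 = ev (m m0 h0).g e.2 := (all_take_done (all_take_step (all_take_zero _ r5E) ((m m0 h0).pairs_of (base m0 h0 hb hc) (Model.via _ (mR m0 h0) (fun R => pairsB R [2, 20380, 6320, 1, 0] ((r5E.drop 0).take 21)) c56))) (by decide +kernel))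
theorem nf5 : ev (m m0 h0).g [0] ≠ ev (m m0 h0).g [1] := ((m m0 h0).ne_of_neB (Model.via _ (mR m0 h0) (fun R => neB R [0] [1] 3 3 168) c57))
theorem x5 : ∀ e ∈ x5E, ev (m m0 h0).g e.1 = ev (m m0 h0).g e.2 := (all_take_done (all_take_step (all_take_zero _ x5E) ((m m0 h0).pairs_of (base m0 h0 hb hc) (Model.via _ (mR m0 h0) (fun R => pairsB R [2, 20380, 6320, 1, 0] ((x5E.drop 0).take 15)) c58))) (by decide +kernel))
theorem j5 : ∀ e ∈ j5E, ev (m m0 h0).g e.1 = ev (m m0 h0).g e.2 := (all_take_done (all_take_step (all_take_zero _ j5E) ((m m0 h0).pairs_of (base m0 h0 hb hc) (Model.via _ (mR m0 h0) (fun R => pairsB R [2, 20380, 6320, 1, 0] ((j5E.drop 0).take 5)) c59))) (by decide +kernel))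
theorem n5 : ∀ e ∈ n5E, ev (m m0 h0).g e.1 = ev (m m0 h0).g e.2 := (all_take_done (all_take_step (all_take_zero _ n5E) ((m m0 h0).pairs_of (base m0 h0 hb hc) (Model.via _ (mR m0 h0) (fun R => pairsB R [2, 20380, 6320, 1, 0] ((n5E.drop 0).take 8)) c60))) (by decide +kernel))
omit hb hc in
theorem ch5_ok : (m m0 h0).ChainOK ch5 [] := ((m m0 h0).chain_cons [0, 1, 2, 0, 1, 3, 0, 1] (Model.via _ (mR m0 h0) (fun R => Model.fixP R [] [[33], [34], [35], [36]]) c67) (Model.via _ (mR m0 h0) (fun R => Model.growP R [[33], [34], [35], [36]] [0, 1, 2, 0, 1, 3, 0, 1] 0 60) c68) ((m m0 h0).chain_cons [2] (Model.via _ (mR m0 h0) (fun R => Model.fixP R [0] [[34, 34, 34], [36, 36, 33, 34], [36, 33, 36, 35], [35, 34, 35, 33, 33]]) c65) (Model.via _ (mR m0 h0) (fun R => Model.growP R [[34, 34, 34], [36, 36, 33, 34], [36, 33, 36, 35], [35, 34, 35, 33, 33]] [2] 1 2) c66) ((m m0 h0).chain_cons [1, 2, 3, 2, 3, 1] (Model.via _ (mR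 m0 h0) (fun R => Model.fixP R [1, 0] [[34, 34, 34], [36, 36, 33, 34], [33, 34, 36, 36], [33, 33, 36, 35, 33]]) c63) (Model.via _ (mR m0 h0) (fun R => Model.growP R [[34, 34, 34], [36, 36, 33, 34], [33, 34, 36, 36], [33, 33, 36, 35, 33]] [1, 2, 3, 2, 3, 1] 3 20) c64) ((m m0 h0).chain_cons [0] (Model.via _ (mR m0 h0) (fun R => Model.fixP R [3, 1, 0] [[34, 34, 34]]) c61) (Model.via _ (mR m0 h0) (fun R => Model.growP R [[34, 34, 34]] [0] 5 2) c62) ((m m0 h0).chain_nil _)))))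
omit hb hc in
theorem p7ch_ok : (m m0 h0).ChainOK p7ch [] := ((m m0 h0).chain_cons [0, 0, 1, 0, 1, 0, 1, 0, 1, 0, 1, 0, 1, 0, 1, 0, 1, 0, 1, 0, 1, 0, 1, 0, 1, 0, 1, 0] (Model.via _ (mR m0 h0) (fun R => Model.fixP R [] [[10], [11]]) c87) (Model.via _ (mR m0 h0) (fun R => Model.growP R [[10], [11]] [0, 0, 1, 0, 1, 0, 1, 0, 1, 0, 1, 0, 1, 0, 1, 0, 1, 0, 1, 0, 1, 0, 1, 0, 1, 0, 1, 0] 31670 31671) c88) ((m m0 h0).chain_cons [0, 1, 0, 1, 0, 1, 0, 1, 0, 1, 0, 1, 0, 1, 0, 1, 0, 1, 0, 1, 0, 1, 0, 1, 0, 1] (Model.via _ (mR m0 h0) (fun R => Model.fixP R [31670] [[23], [24]]) c85) (Model.via _ (mR m0 h0) (fun R => Model.growP R [[23], [24]] [0, 1, 0, 1, 0, 1, 0, 1, 0, 1, 0, 1, 0, 1, 0, 1, 0, 1, 0, 1, 0, 1, 0, 1, 0, 1] 31345 28160) c86) ((m m0 h0).chain_cons [0, 1, 0, 1, 0, 1, 0, 1, 0, 1, 0, 1, 0, 1, 0, 1, 0, 1, 0, 1] (Model.via _ (mR m0 h0) (fun R => Model.fixP R [31345, 31670] [[25], [26]]) c83) (Model.via _ (mR m0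 h0) (fun R => Model.growP R [[25], [26]] [0, 1, 0, 1, 0, 1, 0, 1, 0, 1, 0, 1, 0, 1, 0, 1, 0, 1, 0, 1] 31344 3159) c84) ((m m0 h0).chain_cons [0, 1, 0, 1, 0, 1, 0, 1, 0, 1, 0, 1, 0, 0, 1] (Model.via _ (mR m0 h0) (fun R => Model.fixP R [31344, 31345, 31670] [[27], [28]]) c81) (Model.via _ (mR m0 h0) (fun R => Model.growP R [[27], [28]] [0, 1, 0, 1, 0, 1, 0, 1, 0, 1, 0, 1, 0, 0, 1] 31517 288) c82) ((m m0 h0).chain_cons [0, 0, 0, 0, 0, 0] (Model.via _ (mR m0 h0) (fun R => Model.fixP R [31517, 31344, 31345, 31670] [[29], [30]]) c79) (Model.via _ (mR m0 h0) (fun R => Model.growP R [[29], [30]] [0, 0, 0, 0, 0, 0] 28716 7) c80) ((m m0 h0).chain_cons [0, 1, 2] (Model.via _ (mR m0 h0) (fun R => Model.fixP R [28716, 31517, 31344, 31345, 31670] [[29, 30], [30, 30, 30], [29, 29, 30, 30]]) c77) (Model.via _ (mR m0 h0) (fun R => Model.growP R [[29, 30], [30, 30, 30], [29, 29, 30, 30]] [0, 1, 2] 31335 6) c78) ((m m0 h0).chain_cons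 [1, 1, 0, 0] (Model.via _ (mR m0 h0) (fun R => Model.fixP R [31335, 28716, 31517, 31344, 31345, 31670] [[29, 30, 29, 30], [30, 29, 30, 29, 29, 29], [30, 29, 30, 29, 30, 29]]) c75) (Model.via _ (mR m0 h0) (fun R => Model.growP R [[29, 30, 29, 30], [30, 29, 30, 29, 29, 29], [30, 29, 30, 29, 30, 29]] [1, 1, 0, 0] 3716 5) c76) ((m m0 h0).chain_cons [0, 2] (Model.via _ (mR m0 h0) (fun R => Model.fixP R [3716, 31335, 28716, 31517, 31344, 31345, 31670] [[29, 30, 29, 30], [30, 29, 30, 29, 30, 29], [30, 30, 29, 29, 29, 30, 29, 29]]) c73) (Model.via _ (mR m0 h0) (fun R => Model.growP R [[29, 30, 29, 30], [30, 29, 30, 29, 30, 29], [30, 30, 29, 29, 29, 30, 29, 29]] [0, 2] 31658 4) c74) ((m m0 h0).chain_cons [0, 1] (Model.via _ (mR m0 h0) (fun R => Model.fixP R [31658, 3716, 31335, 28716, 31517, 31344, 31345, 31670] [[30, 30, 30, 29, 30, 30, 30, 30], [29, 30, 30, 30, 30, 30, 30, 30]]) c71) (Model.via _ (mR m0 h0) (fun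 R => Model.growP R [[30, 30, 30, 29, 30, 30, 30, 30], [29, 30, 30, 30, 30, 30, 30, 30]] [0, 1] 31512 3) c72) ((m m0 h0).chain_cons [0] (Model.via _ (mR m0 h0) (fun R => Model.fixP R [31512, 31658, 3716, 31335, 28716, 31517, 31344, 31345, 31670] [[29, 30, 30, 30, 30, 30, 30, 30]]) c69) (Model.via _ (mR m0 h0) (fun R => Model.growP R [[29, 30, 30, 30, 30, 30, 30, 30]] [0] 204 2) c70) ((m m0 h0).chain_nil _)))))))))))
theorem p7top : gen (m m0 h0).g (Model.cgens p7ch) = ⊤ := (m m0 h0).chain_top (p7ch_ok m0 h0) (hc.trans (by decide +kernel))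
theorem p7bdd : (m m0 h0).Bdd := (m m0 h0).bdd_of_top (p7top m0 h0 hb hc)
theorem p7ot : (m m0 h0).OTOK p7OT := ((m m0 h0).otok_cons (p7ch_ok m0 h0) (hc.trans (by decide +kernel)) 4 rfl (Model.via _ (mR m0 h0) (fun R => Model.invB R (Model.cgens (p7ch.drop 4)) p7O0) c112) ((m m0 h0).otok_cons (p7ch_ok m0 h0) (hc.trans (by decide +kernel)) 3 rfl (Model.via _ (mR m0 h0) (fun R => Model.invB R (Model.cgens (p7ch.drop 3)) p7O1) c111) ((m m0 h0).otok_cons (p7ch_ok m0 h0) (hc.trans (by decide +kernel)) 2 rfl (Model.via _ (mR m0 h0) (fun R => Model.invB R (Model.cgens (p7ch.drop 2)) p7O2) c110) ((m m0 h0).otok_cons (p7ch_ok m0 h0) (hc.trans (by decide +kernel)) 1 rfl (Model.via _ (mR m0 h0) (fun R => Model.invB R (Model.cgens (p7ch.drop 1)) p7O3) c109) ((m m0 h0).otok_cons (p7ch_ok m0 h0) (hc.trans (by decide +kernel)) 0 rfl (Model.via _ (mR m0 h0) (fun R => Model.invB R (Model.cgens (p7ch.drop 0)) p7O4) c108) (m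 m0 h0).otok_nil)))))
theorem p7cm : ∀ w ∈ p7Cg, (m m0 h0).Cm [[37]] (ev (m m0 h0).g w) := (m m0 h0).cm_of_pairs (all_take_done (all_take_step (all_take_zero _ (p7Cg.flatMap fun w => [[37]].map fun y => (w ++ y, y ++ w))) ((m m0 h0).pairs_of (base m0 h0 hb hc) (Model.via _ (mR m0 h0) (fun R => pairsB R [2, 20380, 6320, 1, 0] (((p7Cg.flatMap fun w => [[37]].map fun y => (w ++ y, y ++ w)).drop 0).take 5)) c113))) (by decide +kernel))
theorem p7n5 : (m m0 h0).Sol [[37]] p7Cg [204, 31512, 31658, 3716, 31335, 28716, 31517, 31344, 31345, 31670] [204, 31512, 31658, 3716, 31335, 28716, 31517, 31344, 31345, 31670] := (m m0 h0).sol_done [0, 1, 2, 3, 4, 5, 6, 7, 8, 9] (((m m0 h0).chain_bot (p7ch_ok m0 h0) (hc.trans (by decide +kernel))).le.trans bot_le) (by decide +kernel)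
theorem p7n4 : (m m0 h0).Sol [[37]] p7Cg [31517, 31344, 31345, 31670] [31517, 31344, 31345, 31670] := (m m0 h0).sol_free (p7bdd m0 h0 hb hc) (p7cm m0 h0 hb hc) (p7ot m0 h0 hb hc) ((m m0 h0).excl_zero _ _) (Model.via _ (mR m0 h0) (fun R => freeB R p7OT [[37]] p7Cg [0, 1, 2, 3] [31517, 31344, 31345, 31670] [31517, 31344, 31345, 31670] [] 28716 0 [([], 28716, 0)] [[0]] [0, 0, 0, 0, 0, 0] p7c95) c95) ((m m0 h0).solL_cons ((m m0 h0).sol_cyc [0] (Bc := [204, 31512, 31658, 3716, 31335, 28716]) (T := [204, 31512, 31658, 3716, 31335, 28716]) rfl (Model.via _ (mR m0 h0) (fun R => cycB R (subst [[37]] [0]) [204, 31512, 31658, 3716, 31335, 28716]) c93) (Model.via _ (mR m0 h0) (fun R => cycB R (subst [[37]] [0]) [204, 31512, 31658, 3716, 31335, 28716]) c94) (p7n5 m0 h0 hb hc)) (m m0 h0).solL_nil)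
theorem p7n3 : (m m0 h0).Sol [[37]] p7Cg [31344, 31345, 31670] [31344, 31345, 31670] := (m m0 h0).sol_free (p7bdd m0 h0 hb hc) (p7cm m0 h0 hb hc) (p7ot m0 h0 hb hc) ((m m0 h0).excl_mov (p7bdd m0 h0 hb hc) [0] (Model.via _ (mR m0 h0) (fun R => exclB R (subst [[37]] [0]) 31517 p7D3) c97)) (Model.via _ (mR m0 h0) (fun R => freeB R p7OT [[37]] p7Cg [0, 1, 2] [31344, 31345, 31670] [31344, 31345, 31670] [] 31517 p7D3 [([], 31517, 1)] [[0]] [] p7c98) c98) ((m m0 h0).solL_cons ((m m0 h0).sol_cyc [] (Bc := [31517]) (T := [31517]) rfl (Model.via _ (mR m0 h0) (fun R => cycB R (subst [[37]] []) [31517]) c92) (Model.via _ (mR m0 h0) (fun R => cycB R (subst [[37]] []) [31517]) c96) (p7n4 m0 h0 hb hc)) (m m0 h0).solL_nil)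
theorem p7n2 : (m m0 h0).Sol [[37]] p7Cg [31345, 31670] [31345, 31670] := (m m0 h0).sol_free (p7bdd m0 h0 hb hc) (p7cm m0 h0 hb hc) (p7ot m0 h0 hb hc) ((m m0 h0).excl_mov (p7bdd m0 h0 hb hc) [0] (Model.via _ (mR m0 h0) (fun R => exclB R (subst [[37]] [0]) 31344 p7D2) c100)) (Model.via _ (mR m0 h0) (fun R => freeB R p7OT [[37]] p7Cg [0, 1] [31345, 31670] [31345, 31670] [] 31344 p7D2 [([], 31344, 2)] [[0], [4]] [1] p7c101) c101) ((m m0 h0).solL_cons ((m m0 h0).sol_cyc [] (Bc := [31344]) (T := [31344]) rfl (Model.via _ (mR m0 h0) (fun R => cycB R (subst [[37]] []) [31344]) c91) (Model.via _ (mR m0 h0) (fun R => cycB R (subst [[37]] []) [31344]) c99) (p7n3 m0 h0 hb hc)) (m m0 h0).solL_nil)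
theorem p7n1 : (m m0 h0).Sol [[37]] p7Cg [31670] [31670] := (m m0 h0).sol_free (p7bdd m0 h0 hb hc) (p7cm m0 h0 hb hc) (p7ot m0 h0 hb hc) ((m m0 h0).excl_mov (p7bdd m0 h0 hb hc) [0] (Model.via _ (mR m0 h0) (fun R => exclB R (subst [[37]] [0]) 31345 p7D1) c103)) (Model.via _ (mR m0 h0) (fun R => freeB R p7OT [[37]] p7Cg [0] [31670] [31670] [] 31345 p7D1 [([], 31345, 3)] [[0], [1], [3], [4]] [1, 2, 3] p7c104) c104) ((m m0 h0).solL_cons ((m m0 h0).sol_cyc [] (Bc := [31345]) (T := [31345]) rfl (Model.via _ (mR m0 h0) (fun R => cycB R (subst [[37]] []) [31345]) c90) (Model.via _ (mR m0 h0) (fun R => cycB R (subst [[37]] []) [31345]) c102) (p7n2 m0 h0 hb hc)) (m m0 h0).solL_nil)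
theorem p7n0 : (m m0 h0).Sol [[37]] p7Cg [] [] := (m m0 h0).sol_free (p7bdd m0 h0 hb hc) (p7cm m0 h0 hb hc) (p7ot m0 h0 hb hc) ((m m0 h0).excl_mov (p7bdd m0 h0 hb hc) [0] (Model.via _ (mR m0 h0) (fun R => exclB R (subst [[37]] [0]) 31670 p7D0) c106)) (Model.via _ (mR m0 h0) (fun R => freeB R p7OT [[37]] p7Cg [] [] [] [] 31670 p7D0 [([], 31670, 4)] [[0], [1], [2], [3], [4]] [2, 1, 3, 4, 2, 3] p7c107) c107) ((m m0 h0).solL_cons ((m m0 h0).sol_cyc [] (Bc := [31670]) (T := [31670]) rfl (Model.via _ (mR m0 h0) (fun R => cycB R (subst [[37]] []) [31670]) c89) (Model.via _ (mR m0 h0) (fun R => cycB R (subst [[37]] []) [31670]) c105) (p7n1 m0 h0 hb hc)) (m m0 h0).solL_nil)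
theorem p7sol : (m m0 h0).Sol [[37]] p7Cg [] [] := p7n0 m0 h0 hb hc
theorem ne7 : ev (m m0 h0).g [37] ≠ ev (m m0 h0).g [] := ((m m0 h0).ne_of_neB (Model.via _ (mR m0 h0) (fun R => neB R [37] [] 0 31546 0) c114))
theorem r7 : ∀ e ∈ r7E, ev (m m0 h0).g e.1 = ev (m m0 h0).g e.2 := (all_take_done (all_take_step (all_take_zero _ r7E) ((m m0 h0).pairs_of (base m0 h0 hb hc) (Model.via _ (mR m0 h0) (fun R => pairsB R [2, 20380, 6320, 1, 0] ((r7E.drop 0).take 15)) c115))) (by decide +kernel))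
theorem nf7 : ev (m m0 h0).g [0] ≠ ev (m m0 h0).g [1] := ((m m0 h0).ne_of_neB (Model.via _ (mR m0 h0) (fun R => neB R [0] [1] 3 3 168) c116))
theorem x7 : ∀ e ∈ x7E, ev (m m0 h0).g e.1 = ev (m m0 h0).g e.2 := (all_take_done (all_take_step (all_take_zero _ x7E) ((m m0 h0).pairs_of (base m0 h0 hb hc) (Model.via _ (mR m0 h0) (fun R => pairsB R [2, 20380, 6320, 1, 0] ((x7E.drop 0).take 6)) c117))) (by decide +kernel))
omit hb hc in
theorem p13ch_ok : (m m0 h0).ChainOK p13ch [] := ((m m0 h0).chain_cons [0, 0, 1, 0, 1, 0, 1, 0, 1, 0, 1, 0, 1, 0, 1, 0, 1, 0, 1, 0, 1, 0, 1, 0, 1, 0, 1, 0] (Model.via _ (mR m0 h0) (fun R => Model.fixP R [] [[10], [11]]) c132) (Model.via _ (mR m0 h0) (fun R => Model.growP R [[10], [11]] [0, 0, 1, 0, 1, 0, 1, 0, 1, 0, 1, 0, 1, 0, 1, 0, 1, 0, 1, 0, 1, 0, 1, 0, 1, 0, 1, 0] 31670 31671) c133) ((m m0 h0).chain_cons [0, 1, 0, 1, 0, 1, 0, 1, 0, 1, 0, 1, 0, 1, 0, 1, 0, 1, 0, 1, 0, 1, 0, 1,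 0, 1] (Model.via _ (mR m0 h0) (fun R => Model.fixP R [31670] [[23], [24]]) c130) (Model.via _ (mR m0 h0) (fun R => Model.growP R [[23], [24]] [0, 1, 0, 1, 0, 1, 0, 1, 0, 1, 0, 1, 0, 1, 0, 1, 0, 1, 0, 1, 0, 1, 0, 1, 0, 1] 31345 28160) c131) ((m m0 h0).chain_cons [0, 1, 0, 1, 0, 1, 0, 1, 0, 1, 0, 1, 0, 1, 0, 0] (Model.via _ (mR m0 h0) (fun R => Model.fixP R [31345, 31670] [[25], [26]]) c128) (Model.via _ (mR m0 h0) (fun R => Model.growP R [[25], [26]] [0, 1, 0, 1, 0, 1, 0, 1, 0, 1, 0, 1, 0, 1, 0, 0] 28404 351) c129) ((m m0 h0).chain_cons [0, 1, 0, 1, 0, 1, 0, 1, 0, 1, 0, 1, 1, 0, 0] (Model.via _ (mR m0 h0) (fun R => Model.fixP R [28404, 31345, 31670] [[39], [40]]) c126) (Model.via _ (mR m0 h0) (fun R => Model.growP R [[39], [40]] [0, 1, 0, 1, 0, 1, 0, 1, 0, 1, 0, 1, 1, 0, 0] 6304 224) c127) ((m m0 h0).chain_cons [0, 1, 0, 1, 0, 1, 0, 1, 0, 1, 1, 0, 1] (Model.via _ (mR m0 h0) (fun R => Model.fixP R [6304, 28404,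 31345, 31670] [[41], [42]]) c124) (Model.via _ (mR m0 h0) (fun R => Model.growP R [[41], [42]] [0, 1, 0, 1, 0, 1, 0, 1, 0, 1, 1, 0, 1] 3404 81) c125) ((m m0 h0).chain_cons [0, 1, 3, 0, 1, 3, 0] (Model.via _ (mR m0 h0) (fun R => Model.fixP R [3404, 6304, 28404, 31345, 31670] [[41, 41], [42, 41, 42, 41, 41, 42], [42, 42, 42, 41, 41, 42, 42, 42], [41, 42, 42, 42, 42, 42, 41, 42, 41]]) c122) (Model.via _ (mR m0 h0) (fun R => Model.growP R [[41, 41], [42, 41, 42, 41, 41, 42], [42, 42, 42, 41, 41, 42, 42, 42], [41, 42, 42, 42, 42, 42, 41, 42, 41]] [0, 1, 3, 0, 1, 3, 0] 31611 30) c123) ((m m0 h0).chain_cons [0, 2, 0, 1] (Model.via _ (mR m0 h0) (fun R => Model.fixP R [31611, 3404, 6304, 28404, 31345, 31670] [[42, 42, 42, 41, 41, 41, 41, 42, 42, 42, 41, 41], [41, 41, 41, 42, 41, 41, 42, 41, 41, 42, 41, 42], [42, 41, 41, 41, 42, 41, 41, 41, 41, 42, 42, 41, 41]]) c120) (Model.via _ (mR m0 h0) (fun R => Model.growP R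 [[42, 42, 42, 41, 41, 41, 41, 42, 42, 42, 41, 41], [41, 41, 41, 42, 41, 41, 42, 41, 41, 42, 41, 42], [42, 41, 41, 41, 42, 41, 41, 41, 41, 42, 42, 41, 41]] [0, 2, 0, 1] 632 8) c121) ((m m0 h0).chain_cons [0, 0] (Model.via _ (mR m0 h0) (fun R => Model.fixP R [632, 31611, 3404, 6304, 28404, 31345, 31670] [[41, 41, 42, 42, 41, 42, 42, 41, 42, 41, 42, 42, 42, 41]]) c118) (Model.via _ (mR m0 h0) (fun R => Model.growP R [[41, 41, 42, 42, 41, 42, 42, 41, 42, 41, 42, 42, 42, 41]] [0, 0] 30241 3) c119) ((m m0 h0).chain_nil _)))))))))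
theorem p13top : gen (m m0 h0).g (Model.cgens p13ch) = ⊤ := (m m0 h0).chain_top (p13ch_ok m0 h0) (hc.trans (by decide +kernel))
theorem p13bdd : (m m0 h0).Bdd := (m m0 h0).bdd_of_top (p13top m0 h0 hb hc)
theorem p13ot : (m m0 h0).OTOK p13OT := ((m m0 h0).otok_cons (p13ch_ok m0 h0) (hc.trans (by decide +kernel)) 3 rfl (Model.via _ (mR m0 h0) (fun R => Model.invB R (Model.cgens (p13ch.drop 3)) p13O0) c151) ((m m0 h0).otok_cons (p13ch_ok m0 h0) (hc.trans (by decide +kernel)) 3 rfl (Model.via _ (mR m0 h0) (fun R => Model.invB R (Model.cgens (p13ch.drop 3)) p13O1) c150) ((m m0 h0).otok_cons (p13ch_ok m0 h0) (hc.trans (by decide +kernel)) 7 rfl (Model.via _ (mR m0 h0) (fun R => Model.invB R (Model.cgens (p13ch.drop 7)) p13O2) c149) ((m m0 h0).otok_cons (p13ch_ok m0 h0) (hc.trans (by decide +kernel)) 2 rfl (Model.via _ (mR m0 h0) (fun R => Model.invB R (Model.cgens (p13ch.drop 2)) p13O3) c148) ((m m0 h0).otok_cons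 (p13ch_ok m0 h0) (hc.trans (by decide +kernel)) 1 rfl (Model.via _ (mR m0 h0) (fun R => Model.invB R (Model.cgens (p13ch.drop 1)) p13O4) c147) ((m m0 h0).otok_cons (p13ch_ok m0 h0) (hc.trans (by decide +kernel)) 0 rfl (Model.via _ (mR m0 h0) (fun R => Model.invB R (Model.cgens (p13ch.drop 0)) p13O5) c146) (m m0 h0).otok_nil))))))
theorem p13cm : ∀ w ∈ p13Cg, (m m0 h0).Cm [[43]] (ev (m m0 h0).g w) := (m m0 h0).cm_of_pairs (all_take_done (all_take_step (all_take_zero _ (p13Cg.flatMap fun w => [[43]].map fun y => (w ++ y, y ++ w))) ((m m0 h0).pairs_of (base m0 h0 hb hc) (Model.via _ (mR m0 h0) (fun R => pairsB R [2, 20380, 6320, 1, 0] (((p13Cg.flatMap fun w => [[43]].map fun y => (w ++ y, y ++ w)).drop 0).take 3)) c152))) (by decide +kernel))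
theorem p13n3 : (m m0 h0).Sol [[43]] p13Cg [1959, 31266, 30241, 632, 31611, 3404, 6304, 28404, 31345, 31670] [1959, 31266, 30241, 632, 31611, 3404, 6304, 28404, 31345, 31670] := (m m0 h0).sol_done [2, 3, 4, 5, 6, 7, 8, 9] (((m m0 h0).chain_bot (p13ch_ok m0 h0) (hc.trans (by decide +kernel))).le.trans bot_le) (by decide +kernel)
theorem p13n2 : (m m0 h0).Sol [[43]] p13Cg [31345, 31670] [31345, 31670] := (m m0 h0).sol_free (p13bdd m0 h0 hb hc) (p13cm m0 h0 hb hc) (p13ot m0 h0 hb hc) ((m m0 h0).excl_zero _ _) (Model.via _ (mR m0 h0) (fun R => freeB R p13OT [[43]] p13Cg [0, 1] [31345, 31670] [31345, 31670] [] 28404 0 [([], 28404, 3)] [[0]] [0, 0, 0, 0, 0, 0, 0, 0, 0, 0, 0, 0] p13c139) c139) ((m m0 h0).solL_leaves (p13ot m0 h0 hb hc) [0] (Bc := [1959, 31266, 30241, 632, 31611, 3404, 6304, 28404]) (Model.via _ (mR m0 h0) (fun R => cycB R (subst [[43]] [0]) [1959, 31266, 30241, 632, 31611, 3404, 6304, 28404]) c136)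 (Model.via _ (mR m0 h0) (fun R => allL (leafB R p13OT (subst [[43]] [0]) [2, 3, 4, 5, 6, 7, 8, 9] [1959, 31266, 30241, 632, 31611, 3404, 6304, 28404] [31345, 31670] [31345, 31670]) p13L138) c138) ((m m0 h0).solL_cons ((m m0 h0).sol_cyc [0] (Bc := [1959, 31266, 30241, 632, 31611, 3404, 6304, 28404]) (T := [1959, 31266, 30241, 632, 31611, 3404, 6304, 28404]) rfl (Model.via _ (mR m0 h0) (fun R => cycB R (subst [[43]] [0]) [1959, 31266, 30241, 632, 31611, 3404, 6304, 28404]) c136) (Model.via _ (mR m0 h0) (fun R => cycB R (subst [[43]] [0]) [1959, 31266, 30241, 632, 31611, 3404, 6304, 28404]) c137) (p13n3 m0 h0 hb hc)) (m m0 h0).solL_nil))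
theorem p13n1 : (m m0 h0).Sol [[43]] p13Cg [31670] [31670] := (m m0 h0).sol_free (p13bdd m0 h0 hb hc) (p13cm m0 h0 hb hc) (p13ot m0 h0 hb hc) ((m m0 h0).excl_mov (p13bdd m0 h0 hb hc) [0] (Model.via _ (mR m0 h0) (fun R => exclB R (subst [[43]] [0]) 31345 p13D1) c141)) (Model.via _ (mR m0 h0) (fun R => freeB R p13OT [[43]] p13Cg [0] [31670] [31670] [] 31345 p13D1 [([], 31345, 4)] [[0], [1]] [1] p13c142) c142) ((m m0 h0).solL_cons ((m m0 h0).sol_cyc [] (Bc := [31345]) (T := [31345]) rfl (Model.via _ (mR m0 h0) (fun R => cycB R (subst [[43]] []) [31345]) c135) (Model.via _ (mR m0 h0) (fun R => cycB R (subst [[43]] []) [31345]) c140) (p13n2 m0 h0 hb hc)) (m m0 h0).solL_nil)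
theorem p13n0 : (m m0 h0).Sol [[43]] p13Cg [] [] := (m m0 h0).sol_free (p13bdd m0 h0 hb hc) (p13cm m0 h0 hb hc) (p13ot m0 h0 hb hc) ((m m0 h0).excl_mov (p13bdd m0 h0 hb hc) [0] (Model.via _ (mR m0 h0) (fun R => exclB R (subst [[43]] [0]) 31670 p13D0) c144)) (Model.via _ (mR m0 h0) (fun R => freeB R p13OT [[43]] p13Cg [] [] [] [] 31670 p13D0 [([], 31670, 5)] [[0], [1], [2]] [2, 1] p13c145) c145) ((m m0 h0).solL_cons ((m m0 h0).sol_cyc [] (Bc := [31670]) (T := [31670]) rfl (Model.via _ (mR m0 h0) (fun R => cycB R (subst [[43]] []) [31670]) c134) (Model.via _ (mR m0 h0) (fun R => cycB R (subst [[43]] []) [31670]) c143) (p13n1 m0 h0 hb hc)) (m m0 h0).solL_nil)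
theorem p13sol : (m m0 h0).Sol [[43]] p13Cg [] [] := p13n0 m0 h0 hb hc
theorem ne13 : ev (m m0 h0).g [43] ≠ ev (m m0 h0).g [] := ((m m0 h0).ne_of_neB (Model.via _ (mR m0 h0) (fun R => neB R [43] [] 0 580 0) c153))
theorem r13 : ∀ e ∈ r13E, ev (m m0 h0).g e.1 = ev (m m0 h0).g e.2 := (all_take_done (all_take_step (all_take_zero _ r13E) ((m m0 h0).pairs_of (base m0 h0 hb hc) (Model.via _ (mR m0 h0) (fun R => pairsB R [2, 20380, 6320, 1, 0] ((r13E.drop 0).take 9)) c154))) (by decide +kernel))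
theorem nf13 : ev (m m0 h0).g [0] ≠ ev (m m0 h0).g [1] := ((m m0 h0).ne_of_neB (Model.via _ (mR m0 h0) (fun R => neB R [0] [1] 3 3 168) c155))
theorem x13 : ∀ e ∈ x13E, ev (m m0 h0).g e.1 = ev (m m0 h0).g e.2 := (all_take_done (all_take_step (all_take_zero _ x13E) ((m m0 h0).pairs_of (base m0 h0 hb hc) (Model.via _ (mR m0 h0) (fun R => pairsB R [2, 20380, 6320, 1, 0] ((x13E.drop 0).take 1)) c156))) (by decide +kernel))
omit hb hc in
theorem p11ch_ok : (m m0 h0).ChainOK p11ch [] := ((m m0 h0).chain_cons [0, 0, 1, 0, 1, 0, 1, 0, 1, 0, 1, 0, 1, 0, 1, 0, 1, 0, 1, 0, 1, 0, 1, 0, 1, 0, 1, 0] (Model.via _ (mR m0 h0) (fun R => Model.fixP R [] [[10], [11]]) c175) (Model.via _ (mR m0 h0) (fun R => Model.growP R [[10], [11]] [0, 0, 1, 0, 1, 0, 1, 0, 1, 0, 1, 0, 1, 0, 1, 0, 1, 0, 1, 0, 1, 0, 1, 0, 1, 0, 1, 0] 31670 31671) c176) ((m m0 h0).chain_cons [0, 1, 0, 1, 0, 1, 0, 1, 0, 1, 0, 1, 0, 1, 0, 1, 0, 1, 0, 1, 0] (Model.via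 _ (mR m0 h0) (fun R => Model.fixP R [31670] [[23], [24]]) c173) (Model.via _ (mR m0 h0) (fun R => Model.growP R [[23], [24]] [0, 1, 0, 1, 0, 1, 0, 1, 0, 1, 0, 1, 0, 1, 0, 1, 0, 1, 0, 1, 0] 31344 3510) c174) ((m m0 h0).chain_cons [0, 1, 0, 1, 0, 1, 0, 1, 0, 1, 0, 1, 0, 1, 0, 1, 0] (Model.via _ (mR m0 h0) (fun R => Model.fixP R [31344, 31670] [[45], [46]]) c171) (Model.via _ (mR m0 h0) (fun R => Model.growP R [[45], [46]] [0, 1, 0, 1, 0, 1, 0, 1, 0, 1, 0, 1, 0, 1, 0, 1, 0] 30485 693) c172) ((m m0 h0).chain_cons [0, 1, 0, 1, 0, 1, 0, 1, 0, 1, 0, 1, 0, 0] (Model.via _ (mR m0 h0) (fun R => Model.fixP R [30485, 31344, 31670] [[47], [48]]) c169) (Model.via _ (mR m0 h0) (fun R => Model.growP R [[47], [48]] [0, 1, 0, 1, 0, 1, 0, 1, 0, 1, 0, 1, 0, 0] 29925 180) c170) ((m m0 h0).chain_cons [0, 1, 0, 0, 1, 0, 1, 0, 1, 0, 1, 0, 1, 0] (Model.via _ (mR m0 h0) (fun R => Model.fixP R [29925, 30485, 31344, 31670] [[49], [50]])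 c167) (Model.via _ (mR m0 h0) (fun R => Model.growP R [[49], [50]] [0, 1, 0, 0, 1, 0, 1, 0, 1, 0, 1, 0, 1, 0] 8880 128) c168) ((m m0 h0).chain_cons [0, 2, 0, 1, 2, 0, 1, 0] (Model.via _ (mR m0 h0) (fun R => Model.fixP R [8880, 29925, 30485, 31344, 31670] [[51], [52], [53]]) c165) (Model.via _ (mR m0 h0) (fun R => Model.growP R [[51], [52], [53]] [0, 2, 0, 1, 2, 0, 1, 0] 10508 32) c166) ((m m0 h0).chain_cons [0, 1, 0] (Model.via _ (mR m0 h0) (fun R => Model.fixP R [10508, 8880, 29925, 30485, 31344, 31670] [[51, 51, 53, 51], [51, 52, 51, 51, 51], [51, 51, 52, 51, 52], [53, 51, 51, 53, 52]]) c163) (Model.via _ (mR m0 h0) (fun R => Model.growP R [[51, 51, 53, 51], [51, 52, 51, 51, 51], [51, 51, 52, 51, 52], [53, 51, 51, 53, 52]] [0, 1, 0] 28566 6) c164) ((m m0 h0).chain_cons [2, 2] (Model.via _ (mR m0 h0) (fun R => Model.fixP R [28566, 10508, 8880, 29925, 30485, 31344, 31670] [[52, 51, 52, 51, 52, 51], [53, 51,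 53, 51, 53, 51], [52, 53, 52, 53, 51, 53, 53, 51]]) c161) (Model.via _ (mR m0 h0) (fun R => Model.growP R [[52, 51, 52, 51, 52, 51], [53, 51, 53, 51, 53, 51], [52, 53, 52, 53, 51, 53, 53, 51]] [2, 2] 959 3) c162) ((m m0 h0).chain_cons [0] (Model.via _ (mR m0 h0) (fun R => Model.fixP R [959, 28566, 10508, 8880, 29925, 30485, 31344, 31670] [[52, 51, 52, 51, 52, 51], [53, 51, 53, 51, 53, 51]]) c159) (Model.via _ (mR m0 h0) (fun R => Model.growP R [[52, 51, 52, 51, 52, 51], [53, 51, 53, 51, 53, 51]] [0] 58 2) c160) ((m m0 h0).chain_cons [0] (Model.via _ (mR m0 h0) (fun R => Model.fixP R [58, 959, 28566, 10508, 8880, 29925, 30485, 31344, 31670] [[53, 51, 53, 51, 53, 51]]) c157) (Model.via _ (mR m0 h0) (fun R => Model.growP R [[53, 51, 53, 51, 53, 51]] [0] 1335 2) c158) ((m m0 h0).chain_nil _)))))))))))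
theorem p11top : gen (m m0 h0).g (Model.cgens p11ch) = ⊤ := (m m0 h0).chain_top (p11ch_ok m0 h0) (hc.trans (by decide +kernel))
theorem p11bdd : (m m0 h0).Bdd := (m m0 h0).bdd_of_top (p11top m0 h0 hb hc)
theorem p11ot : (m m0 h0).OTOK p11OT := ((m m0 h0).otok_cons (p11ch_ok m0 h0) (hc.trans (by decide +kernel)) 9 rfl (Model.via _ (mR m0 h0) (fun R => Model.invB R (Model.cgens (p11ch.drop 9)) p11O0) c214) ((m m0 h0).otok_cons (p11ch_ok m0 h0) (hc.trans (by decide +kernel)) 8 rfl (Model.via _ (mR m0 h0) (fun R => Model.invB R (Model.cgens (p11ch.drop 8)) p11O1) c213) ((m m0 h0).otok_cons (p11ch_ok m0 h0) (hc.trans (by decide +kernel)) 3 rfl (Model.via _ (mR m0 h0) (fun R => Model.invB R (Model.cgens (p11ch.drop 3)) p11O2) c212) ((m m0 h0).otok_cons (p11ch_ok m0 h0) (hc.trans (by decide +kernel)) 3 rfl (Model.via _ (mR m0 h0) (fun R => Model.invB R (Model.cgens (p11ch.drop 3)) p11O3) c211) ((m m0 h0).otok_cons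 (p11ch_ok m0 h0) (hc.trans (by decide +kernel)) 2 rfl (Model.via _ (mR m0 h0) (fun R => Model.invB R (Model.cgens (p11ch.drop 2)) p11O4) c210) ((m m0 h0).otok_cons (p11ch_ok m0 h0) (hc.trans (by decide +kernel)) 1 rfl (Model.via _ (mR m0 h0) (fun R => Model.invB R (Model.cgens (p11ch.drop 1)) p11O5) c209) ((m m0 h0).otok_cons (p11ch_ok m0 h0) (hc.trans (by decide +kernel)) 5 rfl (Model.via _ (mR m0 h0) (fun R => Model.invB R (Model.cgens (p11ch.drop 5)) p11O6) c208) ((m m0 h0).otok_cons (p11ch_ok m0 h0) (hc.trans (by decide +kernel)) 0 rfl (Model.via _ (mR m0 h0) (fun R => Model.invB R (Model.cgens (p11ch.drop 0)) p11O7) c207) (m m0 h0).otok_nil))))))))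
theorem p11cm : ∀ w ∈ p11Cg, (m m0 h0).Cm [[54]] (ev (m m0 h0).g w) := (m m0 h0).cm_of_pairs (all_take_done (all_take_step (all_take_zero _ (p11Cg.flatMap fun w => [[54]].map fun y => (w ++ y, y ++ w))) ((m m0 h0).pairs_of (base m0 h0 hb hc) (Model.via _ (mR m0 h0) (fun R => pairsB R [2, 20380, 6320, 1, 0] (((p11Cg.flatMap fun w => [[54]].map fun y => (w ++ y, y ++ w)).drop 0).take 3)) c215))) (by decide +kernel))
theorem p11n5 : (m m0 h0).Sol [[54]] p11Cg [1335, 58, 959, 28566, 10508, 8880, 29925, 30485, 31344, 31670] [1335, 58, 959, 28566, 10508, 8880, 29925, 30485, 31344, 31670] := (m m0 h0).sol_done [0, 1, 2, 3, 4, 5, 6, 7, 8, 9] (((m m0 h0).chain_bot (p11ch_ok m0 h0) (hc.trans (by decide +kernel))).le.trans bot_le) (by decide +kernel)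
theorem p11n4 : (m m0 h0).Sol [[54]] p11Cg [58, 959, 28566, 10508, 8880, 29925, 30485, 31344, 31670] [58, 959, 28566, 10508, 8880, 29925, 30485, 31344, 31670] := (m m0 h0).sol_free (p11bdd m0 h0 hb hc) (p11cm m0 h0 hb hc) (p11ot m0 h0 hb hc) ((m m0 h0).excl_zero _ _) (Model.via _ (mR m0 h0) (fun R => freeB R p11OT [[54]] p11Cg [0, 1, 2, 3, 4, 5, 6, 7, 8] [58, 959, 28566, 10508, 8880, 29925, 30485, 31344, 31670] [58, 959, 28566, 10508, 8880, 29925, 30485, 31344, 31670] [] 1335 0 [([], 1335, 0)] [[1]] [0] p11c183) c183) ((m m0 h0).solL_cons ((m m0 h0).sol_cyc [] (Bc := [1335]) (T := [1335]) rfl (Model.via _ (mR m0 h0) (fun R => cycB R (subst [[54]] []) [1335]) c181) (Model.via _ (mR m0 h0) (fun R => cycB R (subst [[54]] []) [1335]) c182) (p11n5 m0 h0 hb hc)) (m m0 h0).solL_nil)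
theorem p11n3 : (m m0 h0).Sol [[54]] p11Cg [959, 28566, 10508, 8880, 29925, 30485, 31344, 31670] [959, 28566, 10508, 8880, 29925, 30485, 31344, 31670] := (m m0 h0).sol_free (p11bdd m0 h0 hb hc) (p11cm m0 h0 hb hc) (p11ot m0 h0 hb hc) ((m m0 h0).excl_zero _ _) (Model.via _ (mR m0 h0) (fun R => freeB R p11OT [[54]] p11Cg [0, 1, 2, 3, 4, 5, 6, 7] [959, 28566, 10508, 8880, 29925, 30485, 31344, 31670] [959, 28566, 10508, 8880, 29925, 30485, 31344, 31670] [] 58 0 [([], 58, 1)] [[1], [2]] [1] p11c185) c185) ((m m0 h0).solL_cons ((m m0 h0).sol_cyc [] (Bc := [58]) (T := [58]) rfl (Model.via _ (mR m0 h0) (fun R => cycB R (subst [[54]] []) [58]) c180) (Model.via _ (mR m0 h0) (fun R => cycB R (subst [[54]] []) [58]) c184) (p11n4 m0 h0 hb hc)) (m m0 h0).solL_nil)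
theorem p11n2 : (m m0 h0).Sol [[54]] p11Cg [31344, 31670] [31344, 31670] := (m m0 h0).sol_free (p11bdd m0 h0 hb hc) (p11cm m0 h0 hb hc) (p11ot m0 h0 hb hc) ((m m0 h0).excl_zero _ _) (Model.via _ (mR m0 h0) (fun R => freeB R p11OT [[54]] p11Cg [0, 1] [31344, 31670] [31344, 31670] [] 30485 0 [([], 30485, 4)] [[0], [1], [2]] [0, 0, 0, 0, 0, 0, 0, 0, 0, 0] p11c189) c189) ((m m0 h0).solL_leaves (p11ot m0 h0 hb hc) [0] (Bc := [959, 28566, 10508, 8880, 29925, 30485]) (Model.via _ (mR m0 h0) (fun R => cycB R (subst [[54]] [0]) [959, 28566, 10508, 8880, 29925, 30485]) c179) (Model.via _ (mR m0 h0) (fun R => allL (leafB R p11OT (subst [[54]] [0]) [0, 1, 2, 3, 4, 5, 6, 7] [959, 28566, 10508, 8880, 29925, 30485] [31344, 31670] [31344, 31670]) p11L188) c188) ((m m0 h0).solL_leaves (p11ot m0 h0 hb hc) [0] (Bc := [959, 28566, 10508, 8880, 29925, 30485]) (Model.via _ (mR m0 h0) (fun R => cycB R (subst [[54]] [0]) [959, 28566,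 10508, 8880, 29925, 30485]) c179) (Model.via _ (mR m0 h0) (fun R => allL (leafB R p11OT (subst [[54]] [0]) [0, 1, 2, 3, 4, 5, 6, 7] [959, 28566, 10508, 8880, 29925, 30485] [31344, 31670] [31344, 31670]) p11L187) c187) ((m m0 h0).solL_cons ((m m0 h0).sol_cyc [0] (Bc := [959, 28566, 10508, 8880, 29925, 30485]) (T := [959, 28566, 10508, 8880, 29925, 30485]) rfl (Model.via _ (mR m0 h0) (fun R => cycB R (subst [[54]] [0]) [959, 28566, 10508, 8880, 29925, 30485]) c179) (Model.via _ (mR m0 h0) (fun R => cycB R (subst [[54]] [0]) [959, 28566, 10508, 8880, 29925, 30485]) c186) (p11n3 m0 h0 hb hc)) (m m0 h0).solL_nil)))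
theorem p11n1 : (m m0 h0).Sol [[54]] p11Cg [31670] [31670] := (m m0 h0).sol_free (p11bdd m0 h0 hb hc) (p11cm m0 h0 hb hc) (p11ot m0 h0 hb hc) ((m m0 h0).excl_mov (p11bdd m0 h0 hb hc) [0] (Model.via _ (mR m0 h0) (fun R => exclB R (subst [[54]] [0]) 31344 p11D1) c191)) (Model.via _ (mR m0 h0) (fun R => freeB R p11OT [[54]] p11Cg [0] [31670] [31670] [] 31344 p11D1 [([], 31344, 5)] [[0], [1], [2]] [] p11c192) c192) ((m m0 h0).solL_cons ((m m0 h0).sol_cyc [] (Bc := [31344]) (T := [31344]) rfl (Model.via _ (mR m0 h0) (fun R => cycB R (subst [[54]] []) [31344]) c178) (Model.via _ (mR m0 h0) (fun R => cycB R (subst [[54]] []) [31344]) c190) (p11n2 m0 h0 hb hc)) (m m0 h0).solL_nil)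
theorem p11n7 : (m m0 h0).Sol [[54]] p11Cg [31344, 31670] [31670, 31344] := (m m0 h0).sol_free (p11bdd m0 h0 hb hc) (p11cm m0 h0 hb hc) (p11ot m0 h0 hb hc) ((m m0 h0).excl_zero _ _) (Model.via _ (mR m0 h0) (fun R => freeB R p11OT [[54]] p11Cg [0, 1] [31344, 31670] [31670, 31344] [23, 23, 24, 24, 23, 24, 23, 24, 23, 24, 24, 24, 10, 10, 10, 10, 11, 10, 11, 10, 11, 10, 10, 10, 10] 30485 0 [([], 30485, 4)] [[0], [1], [2]] [0, 0, 0, 0, 0, 0, 0, 0, 0, 0] p11c201) c201) ((m m0 h0).solL_leaves (p11ot m0 h0 hb hc) [0] (Bc := [959, 28566, 10508, 8880, 29925, 30485]) (Model.via _ (mR m0 h0) (fun R => cycB R (subst [[54]] [0]) [959, 28566, 10508, 8880, 29925, 30485]) c179) (Model.via _ (mR m0 h0) (fun R => allL (leafB R p11OT (subst [[54]] [0]) [0, 1, 2, 3, 4, 5, 6, 7] [959, 28566, 10508, 8880, 29925, 30485] [31344, 31670] [31670, 31344]) p11L200) c200) ((m m0 h0).solL_leaves (p11ot m0 h0 hb hc) [0] (Bc := [959, 28566,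 10508, 8880, 29925, 30485]) (Model.via _ (mR m0 h0) (fun R => cycB R (subst [[54]] [0]) [959, 28566, 10508, 8880, 29925, 30485]) c179) (Model.via _ (mR m0 h0) (fun R => allL (leafB R p11OT (subst [[54]] [0]) [0, 1, 2, 3, 4, 5, 6, 7] [959, 28566, 10508, 8880, 29925, 30485] [31344, 31670] [31670, 31344]) p11L199) c199) ((m m0 h0).solL_leaves (p11ot m0 h0 hb hc) [0] (Bc := [959, 28566, 10508, 8880, 29925, 30485]) (Model.via _ (mR m0 h0) (fun R => cycB R (subst [[54]] [0]) [959, 28566, 10508, 8880, 29925, 30485]) c179) (Model.via _ (mR m0 h0) (fun R => allL (leafB R p11OT (subst [[54]] [0]) [0, 1, 2, 3, 4, 5, 6, 7] [959, 28566, 10508, 8880, 29925, 30485] [31344, 31670] [31670, 31344]) p11L198) c198) ((m m0 h0).solL_leaves (p11ot m0 h0 hb hc) [0] (Bc := [959, 28566, 10508, 8880, 29925, 30485]) (Model.via _ (mR m0 h0) (fun R => cycB R (subst [[54]] [0]) [959, 28566, 10508, 8880, 29925, 30485]) c179) (Model.via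 _ (mR m0 h0) (fun R => allL (leafB R p11OT (subst [[54]] [0]) [0, 1, 2, 3, 4, 5, 6, 7] [959, 28566, 10508, 8880, 29925, 30485] [31344, 31670] [31670, 31344]) p11L197) c197) ((m m0 h0).solL_leaves (p11ot m0 h0 hb hc) [0] (Bc := [959, 28566, 10508, 8880, 29925, 30485]) (Model.via _ (mR m0 h0) (fun R => cycB R (subst [[54]] [0]) [959, 28566, 10508, 8880, 29925, 30485]) c179) (Model.via _ (mR m0 h0) (fun R => allL (leafB R p11OT (subst [[54]] [0]) [0, 1, 2, 3, 4, 5, 6, 7] [959, 28566, 10508, 8880, 29925, 30485] [31344, 31670] [31670, 31344]) p11L196) c196) ((m m0 h0).solL_leaves (p11ot m0 h0 hb hc) [0] (Bc := [959, 28566, 10508, 8880, 29925, 30485]) (Model.via _ (mR m0 h0) (fun R => cycB R (subst [[54]] [0]) [959, 28566, 10508, 8880, 29925, 30485]) c179) (Model.via _ (mR m0 h0) (fun R => allL (leafB R p11OT (subst [[54]] [0]) [0, 1, 2, 3, 4, 5, 6, 7] [959, 28566, 10508, 8880, 29925, 30485] [31344, 31670] [31670,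 31344]) p11L195) c195) ((m m0 h0).solL_leaves (p11ot m0 h0 hb hc) [0] (Bc := [959, 28566, 10508, 8880, 29925, 30485]) (Model.via _ (mR m0 h0) (fun R => cycB R (subst [[54]] [0]) [959, 28566, 10508, 8880, 29925, 30485]) c179) (Model.via _ (mR m0 h0) (fun R => allL (leafB R p11OT (subst [[54]] [0]) [0, 1, 2, 3, 4, 5, 6, 7] [959, 28566, 10508, 8880, 29925, 30485] [31344, 31670] [31670, 31344]) p11L194) c194) (m m0 h0).solL_nil)))))))
theorem p11n6 : (m m0 h0).Sol [[54]] p11Cg [31670] [31344] := (m m0 h0).sol_free (p11bdd m0 h0 hb hc) (p11cm m0 h0 hb hc) (p11ot m0 h0 hb hc) ((m m0 h0).excl_mov (p11bdd m0 h0 hb hc) [0] (Model.via _ (mR m0 h0) (fun R => exclB R (subst [[54]] [0]) 31344 p11D1) c191)) (Model.via _ (mR m0 h0) (fun R => freeB R p11OT [[54]] p11Cg [0] [31670] [31344] [10, 10, 10, 10, 11, 10, 11, 10, 11, 10, 10, 10, 10] 31344 p11D1 [([], 31344, 5)] [[0], [1], [2]] [] p11c203) c203) ((m m0 h0).solL_cons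 ((m m0 h0).sol_cyc [] (Bc := [31344]) (T := [31670]) rfl (Model.via _ (mR m0 h0) (fun R => cycB R (subst [[54]] []) [31344]) c178) (Model.via _ (mR m0 h0) (fun R => cycB R (subst [[54]] []) [31670]) c202) (p11n7 m0 h0 hb hc)) (m m0 h0).solL_nil)
theorem p11n0 : (m m0 h0).Sol [[54]] p11Cg [] [] := (m m0 h0).sol_free (p11bdd m0 h0 hb hc) (p11cm m0 h0 hb hc) (p11ot m0 h0 hb hc) ((m m0 h0).excl_mov (p11bdd m0 h0 hb hc) [0] (Model.via _ (mR m0 h0) (fun R => exclB R (subst [[54]] [0]) 31670 p11D0) c205)) (Model.via _ (mR m0 h0) (fun R => freeB R p11OT [[54]] p11Cg [] [] [] [] 31670 p11D0 [([], 31670, 7)] [[0], [1], [2]] [] p11c206) c206) ((m m0 h0).solL_cons ((m m0 h0).sol_cyc [] (Bc := [31670]) (T := [31344]) rfl (Model.via _ (mR m0 h0) (fun R => cycB R (subst [[54]] []) [31670]) c177) (Model.via _ (mR m0 h0) (fun R => cycB R (subst [[54]] []) [31344]) c204) (p11n6 m0 h0 hb hc)) ((m m0 h0).solL_cons ((m m0 h0).sol_cyc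 [] (Bc := [31670]) (T := [31670]) rfl (Model.via _ (mR m0 h0) (fun R => cycB R (subst [[54]] []) [31670]) c177) (Model.via _ (mR m0 h0) (fun R => cycB R (subst [[54]] []) [31670]) c193) (p11n1 m0 h0 hb hc)) (m m0 h0).solL_nil))
theorem p11sol : (m m0 h0).Sol [[54]] p11Cg [] [] := p11n0 m0 h0 hb hc
theorem ne11 : ev (m m0 h0).g [54] ≠ ev (m m0 h0).g [] := ((m m0 h0).ne_of_neB (Model.via _ (mR m0 h0) (fun R => neB R [54] [] 0 677 0) c216))
theorem r11 : ∀ e ∈ r11E, ev (m m0 h0).g e.1 = ev (m m0 h0).g e.2 := (all_take_done (all_take_step (all_take_zero _ r11E) ((m m0 h0).pairs_of (base m0 h0 hb hc) (Model.via _ (mR m0 h0) (fun R => pairsB R [2, 20380, 6320, 1, 0] ((r11E.drop 0).take 9)) c217))) (by decide +kernel))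
theorem nf11 : ev (m m0 h0).g [0] ≠ ev (m m0 h0).g [2] := ((m m0 h0).ne_of_neB (Model.via _ (mR m0 h0) (fun R => neB R [0] [2] 3 3 58) c218))
theorem w11 : ∀ e ∈ w11E, ev (m m0 h0).g e.1 = ev (m m0 h0).g e.2 := (all_take_done (all_take_step (all_take_zero _ w11E) ((m m0 h0).pairs_of (base m0 h0 hb hc) (Model.via _ (mR m0 h0) (fun R => pairsB R [2, 20380, 6320, 1, 0] ((w11E.drop 0).take 3)) c219))) (by decide +kernel))
omit hb hc in
theorem p17ch_ok : (m m0 h0).ChainOK p17ch [] := ((m m0 h0).chain_cons [0, 0, 0, 1, 0, 1, 0, 1, 0, 1, 0, 1, 0, 1, 0, 1, 0, 1, 0, 1, 0, 1, 0, 1, 0, 1, 0, 1, 0] (Model.via _ (mR m0 h0) (fun R => Model.fixP R [] [[10], [11]]) c228) (Model.via _ (mR m0 h0) (fun R => Model.growP R [[10], [11]] [0, 0, 0, 1, 0, 1, 0, 1, 0, 1, 0, 1, 0, 1, 0, 1, 0, 1, 0, 1, 0, 1, 0, 1, 0, 1, 0, 1, 0] 0 31671) c229) ((m m0 h0).chain_cons [0, 1, 0, 1, 0, 1, 0, 1, 0, 1, 0, 1, 0, 1, 0, 1, 0, 1, 0, 1, 0, 1,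 0, 1, 0, 0] (Model.via _ (mR m0 h0) (fun R => Model.fixP R [0] [[12], [13]]) c226) (Model.via _ (mR m0 h0) (fun R => Model.growP R [[12], [13]] [0, 1, 0, 1, 0, 1, 0, 1, 0, 1, 0, 1, 0, 1, 0, 1, 0, 1, 0, 1, 0, 1, 0, 1, 0, 0] 1 28160) c227) ((m m0 h0).chain_cons [0, 1, 0, 1, 0, 1, 0, 1, 0, 1, 0, 1, 0, 1, 0, 1, 0, 1, 0, 1, 0, 1, 0, 1, 1] (Model.via _ (mR m0 h0) (fun R => Model.fixP R [1, 0] [[14], [15]]) c224) (Model.via _ (mR m0 h0) (fun R => Model.growP R [[14], [15]] [0, 1, 0, 1, 0, 1, 0, 1, 0, 1, 0, 1, 0, 1, 0, 1, 0, 1, 0, 1, 0, 1, 0, 1, 1] 6320 21840) c225) ((m m0 h0).chain_cons [0, 1, 2, 0, 1, 2, 0, 1, 2, 0, 1, 2, 0, 1, 2, 0, 1, 0, 0] (Model.via _ (mR m0 h0) (fun R => Model.fixP R [6320, 1, 0] [[16], [17], [18]]) c222) (Model.via _ (mR m0 h0) (fun R => Model.growP R [[16], [17], [18]] [0, 1, 2, 0, 1, 2, 0, 1, 2, 0, 1, 2, 0, 1, 2, 0, 1, 0, 0] 20380 7776) c223) ((m m0 h0).chain_cons [0, 1, 2, 0, 1, 2] (Model.via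 _ (mR m0 h0) (fun R => Model.fixP R [20380, 6320, 1, 0] [[17, 18, 16, 16, 17, 16, 16], [16, 18, 18, 17, 16, 16, 17, 16, 17], [17, 18, 17, 16, 16, 17, 18, 17, 16, 16]]) c220) (Model.via _ (mR m0 h0) (fun R => Model.growP R [[17, 18, 16, 16, 17, 16, 16], [16, 18, 18, 17, 16, 16, 17, 16, 17], [17, 18, 17, 16, 16, 17, 18, 17, 16, 16]] [0, 1, 2, 0, 1, 2] 17125 27) c221) ((m m0 h0).chain_nil _))))))
theorem p17top : gen (m m0 h0).g (Model.cgens p17ch) = ⊤ := (m m0 h0).chain_top (p17ch_ok m0 h0) (hc.trans (by decide +kernel))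
theorem p17bdd : (m m0 h0).Bdd := (m m0 h0).bdd_of_top (p17top m0 h0 hb hc)
theorem p17ot : (m m0 h0).OTOK p17OT := ((m m0 h0).otok_cons (p17ch_ok m0 h0) (hc.trans (by decide +kernel)) 1 rfl (Model.via _ (mR m0 h0) (fun R => Model.invB R (Model.cgens (p17ch.drop 1)) p17O0) c319) ((m m0 h0).otok_cons (p17ch_ok m0 h0) (hc.trans (by decide +kernel)) 2 rfl (Model.via _ (mR m0 h0) (fun R => Model.invB R (Model.cgens (p17ch.drop 2)) p17O1) c318) ((m m0 h0).otok_cons (p17ch_ok m0 h0) (hc.trans (by decide +kernel)) 2 rfl (Model.via _ (mR m0 h0) (fun R => Model.invB R (Model.cgens (p17ch.drop 2)) p17O2) c317) ((m m0 h0).otok_cons (p17ch_ok m0 h0) (hc.trans (by decide +kernel)) 3 rfl (Model.via _ (mR m0 h0) (fun R => Model.invB R (Model.cgens (p17ch.drop 3)) p17O3) c316) ((m m0 h0).otok_cons (p17ch_ok m0 h0) (hc.trans (by decide +kernel)) 3 rfl (Model.via _ (mR m0 h0) (fun R => Model.invB R (Model.cgens (p17ch.drop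 3)) p17O4) c315) ((m m0 h0).otok_cons (p17ch_ok m0 h0) (hc.trans (by decide +kernel)) 0 rfl (Model.via _ (mR m0 h0) (fun R => Model.invB R (Model.cgens (p17ch.drop 0)) p17O5) c314) (m m0 h0).otok_nil))))))
theorem p17cm : ∀ w ∈ p17Cg, (m m0 h0).Cm [[57]] (ev (m m0 h0).g w) := (m m0 h0).cm_of_pairs (all_take_done (all_take_step (all_take_zero _ (p17Cg.flatMap fun w => [[57]].map fun y => (w ++ y, y ++ w))) ((m m0 h0).pairs_of (base m0 h0 hb hc) (Model.via _ (mR m0 h0) (fun R => pairsB R [2, 20380, 6320, 1, 0] (((p17Cg.flatMap fun w => [[57]].map fun y => (w ++ y, y ++ w)).drop 0).take 1)) c320))) (by decide +kernel))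
theorem p17n1 : (m m0 h0).Sol [[57]] p17Cg [2805, 10112, 14954, 26572, 18042, 1477, 17545, 17125, 20380, 6320, 1, 0] [2805, 10112, 14954, 26572, 18042, 1477, 17545, 17125, 20380, 6320, 1, 0] := (m m0 h0).sol_done [7, 8, 9, 10, 11] (((m m0 h0).chain_bot (p17ch_ok m0 h0) (hc.trans (by decide +kernel))).le.trans bot_le) (by decide +kernel)
theorem p17n0 : (m m0 h0).Sol [[57]] p17Cg [] [] := (m m0 h0).sol_free (p17bdd m0 h0 hb hc) (p17cm m0 h0 hb hc) (p17ot m0 h0 hb hc) ((m m0 h0).excl_zero _ _) (Model.via _ (mR m0 h0) (fun R => freeB R p17OT [[57]] p17Cg [] [] [] [] 0 0 [([], 0, 5)] [[0]] [0, 0, 0, 0, 0, 0, 0, 0, 0, 0, 0, 0, 0, 0, 0, 0] p17c313) c313) ((m m0 h0).solL_leaves (p17ot m0 h0 hb hc) [0] (Bc := [2805, 10112, 14954, 26572, 18042, 1477, 17545, 17125, 20380, 6320, 1, 0]) (Model.via _ (mR m0 h0) (fun R => cycB R (subst [[57]] [0]) [2805, 10112, 14954, 26572, 18042, 1477, 17545, 17125, 20380, 6320, 1, 0])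 c230) (Model.via _ (mR m0 h0) (fun R => allL (leafB R p17OT (subst [[57]] [0]) [7, 8, 9, 10, 11] [2805, 10112, 14954, 26572, 18042, 1477, 17545, 17125, 20380, 6320, 1, 0] [] []) p17L312) c312) ((m m0 h0).solL_leaves (p17ot m0 h0 hb hc) [0] (Bc := [2805, 10112, 14954, 26572, 18042, 1477, 17545, 17125, 20380, 6320, 1, 0]) (Model.via _ (mR m0 h0) (fun R => cycB R (subst [[57]] [0]) [2805, 10112, 14954, 26572, 18042, 1477, 17545, 17125, 20380, 6320, 1, 0]) c230) (Model.via _ (mR m0 h0) (fun R => allL (leafB R p17OT (subst [[57]] [0]) [7, 8, 9, 10, 11] [2805, 10112, 14954, 26572, 18042, 1477, 17545, 17125, 20380, 6320, 1, 0] [] []) p17L311) c311) ((m m0 h0).solL_leaves (p17ot m0 h0 hb hc) [0] (Bc := [2805, 10112, 14954, 26572, 18042, 1477, 17545, 17125, 20380, 6320, 1, 0]) (Model.via _ (mR m0 h0) (fun R => cycB R (subst [[57]] [0]) [2805, 10112, 14954, 26572, 18042, 1477, 17545, 17125, 20380, 6320, 1, 0]) c230)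 (Model.via _ (mR m0 h0) (fun R => allL (leafB R p17OT (subst [[57]] [0]) [7, 8, 9, 10, 11] [2805, 10112, 14954, 26572, 18042, 1477, 17545, 17125, 20380, 6320, 1, 0] [] []) p17L310) c310) ((m m0 h0).solL_leaves (p17ot m0 h0 hb hc) [0] (Bc := [2805, 10112, 14954, 26572, 18042, 1477, 17545, 17125, 20380, 6320, 1, 0]) (Model.via _ (mR m0 h0) (fun R => cycB R (subst [[57]] [0]) [2805, 10112, 14954, 26572, 18042, 1477, 17545, 17125, 20380, 6320, 1, 0]) c230) (Model.via _ (mR m0 h0) (fun R => allL (leafB R p17OT (subst [[57]] [0]) [7, 8, 9, 10, 11] [2805, 10112, 14954, 26572, 18042, 1477, 17545, 17125, 20380, 6320, 1, 0] [] []) p17L309) c309) ((m m0 h0).solL_leaves (p17ot m0 h0 hb hc) [0] (Bc := [2805, 10112, 14954, 26572, 18042, 1477, 17545, 17125, 20380, 6320, 1, 0]) (Model.via _ (mR m0 h0) (fun R => cycB R (subst [[57]] [0]) [2805, 10112, 14954, 26572, 18042, 1477, 17545, 17125, 20380, 6320, 1, 0]) c230) (Model.via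 _ (mR m0 h0) (fun R => allL (leafB R p17OT (subst [[57]] [0]) [7, 8, 9, 10, 11] [2805, 10112, 14954, 26572, 18042, 1477, 17545, 17125, 20380, 6320, 1, 0] [] []) p17L308) c308) ((m m0 h0).solL_leaves (p17ot m0 h0 hb hc) [0] (Bc := [2805, 10112, 14954, 26572, 18042, 1477, 17545, 17125, 20380, 6320, 1, 0]) (Model.via _ (mR m0 h0) (fun R => cycB R (subst [[57]] [0]) [2805, 10112, 14954, 26572, 18042, 1477, 17545, 17125, 20380, 6320, 1, 0]) c230) (Model.via _ (mR m0 h0) (fun R => allL (leafB R p17OT (subst [[57]] [0]) [7, 8, 9, 10, 11] [2805, 10112, 14954, 26572, 18042, 1477, 17545, 17125, 20380, 6320, 1, 0] [] []) p17L307) c307) ((m m0 h0).solL_leaves (p17ot m0 h0 hb hc) [0] (Bc := [2805, 10112, 14954, 26572, 18042, 1477, 17545, 17125, 20380, 6320, 1, 0]) (Model.via _ (mR m0 h0) (fun R => cycB R (subst [[57]] [0]) [2805, 10112, 14954, 26572, 18042, 1477, 17545, 17125, 20380, 6320, 1, 0]) c230) (Model.via _ (mR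 m0 h0) (fun R => allL (leafB R p17OT (subst [[57]] [0]) [7, 8, 9, 10, 11] [2805, 10112, 14954, 26572, 18042, 1477, 17545, 17125, 20380, 6320, 1, 0] [] []) p17L306) c306) ((m m0 h0).solL_leaves (p17ot m0 h0 hb hc) [0] (Bc := [2805, 10112, 14954, 26572, 18042, 1477, 17545, 17125, 20380, 6320, 1, 0]) (Model.via _ (mR m0 h0) (fun R => cycB R (subst [[57]] [0]) [2805, 10112, 14954, 26572, 18042, 1477, 17545, 17125, 20380, 6320, 1, 0]) c230) (Model.via _ (mR m0 h0) (fun R => allL (leafB R p17OT (subst [[57]] [0]) [7, 8, 9, 10, 11] [2805, 10112, 14954, 26572, 18042, 1477, 17545, 17125, 20380, 6320, 1, 0] [] []) p17L305) c305) ((m m0 h0).solL_leaves (p17ot m0 h0 hb hc) [0] (Bc := [2805, 10112, 14954, 26572, 18042, 1477, 17545, 17125, 20380, 6320, 1, 0]) (Model.via _ (mR m0 h0) (fun R => cycB R (subst [[57]] [0]) [2805, 10112, 14954, 26572, 18042, 1477, 17545, 17125, 20380, 6320, 1, 0]) c230) (Model.via _ (mR m0 h0)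 (fun R => allL (leafB R p17OT (subst [[57]] [0]) [7, 8, 9, 10, 11] [2805, 10112, 14954, 26572, 18042, 1477, 17545, 17125, 20380, 6320, 1, 0] [] []) p17L304) c304) ((m m0 h0).solL_leaves (p17ot m0 h0 hb hc) [0] (Bc := [2805, 10112, 14954, 26572, 18042, 1477, 17545, 17125, 20380, 6320, 1, 0]) (Model.via _ (mR m0 h0) (fun R => cycB R (subst [[57]] [0]) [2805, 10112, 14954, 26572, 18042, 1477, 17545, 17125, 20380, 6320, 1, 0]) c230) (Model.via _ (mR m0 h0) (fun R => allL (leafB R p17OT (subst [[57]] [0]) [7, 8, 9, 10, 11] [2805, 10112, 14954, 26572, 18042, 1477, 17545, 17125, 20380, 6320, 1, 0] [] []) p17L303) c303) ((m m0 h0).solL_leaves (p17ot m0 h0 hb hc) [0] (Bc := [2805, 10112, 14954, 26572, 18042, 1477, 17545, 17125, 20380, 6320, 1, 0]) (Model.via _ (mR m0 h0) (fun R => cycB R (subst [[57]] [0]) [2805, 10112, 14954, 26572, 18042, 1477, 17545, 17125, 20380, 6320, 1, 0]) c230) (Model.via _ (mR m0 h0) (fun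 R => allL (leafB R p17OT (subst [[57]] [0]) [7, 8, 9, 10, 11] [2805, 10112, 14954, 26572, 18042, 1477, 17545, 17125, 20380, 6320, 1, 0] [] []) p17L302) c302) ((m m0 h0).solL_leaves (p17ot m0 h0 hb hc) [0] (Bc := [2805, 10112, 14954, 26572, 18042, 1477, 17545, 17125, 20380, 6320, 1, 0]) (Model.via _ (mR m0 h0) (fun R => cycB R (subst [[57]] [0]) [2805, 10112, 14954, 26572, 18042, 1477, 17545, 17125, 20380, 6320, 1, 0]) c230) (Model.via _ (mR m0 h0) (fun R => allL (leafB R p17OT (subst [[57]] [0]) [7, 8, 9, 10, 11] [2805, 10112, 14954, 26572, 18042, 1477, 17545, 17125, 20380, 6320, 1, 0] [] []) p17L301) c301) ((m m0 h0).solL_leaves (p17ot m0 h0 hb hc) [0] (Bc := [2805, 10112, 14954, 26572, 18042, 1477, 17545, 17125, 20380, 6320, 1, 0]) (Model.via _ (mR m0 h0) (fun R => cycB R (subst [[57]] [0]) [2805, 10112, 14954, 26572, 18042, 1477, 17545, 17125, 20380, 6320, 1, 0]) c230) (Model.via _ (mR m0 h0) (fun R =>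 allL (leafB R p17OT (subst [[57]] [0]) [7, 8, 9, 10, 11] [2805, 10112, 14954, 26572, 18042, 1477, 17545, 17125, 20380, 6320, 1, 0] [] []) p17L300) c300) ((m m0 h0).solL_leaves (p17ot m0 h0 hb hc) [0] (Bc := [2805, 10112, 14954, 26572, 18042, 1477, 17545, 17125, 20380, 6320, 1, 0]) (Model.via _ (mR m0 h0) (fun R => cycB R (subst [[57]] [0]) [2805, 10112, 14954, 26572, 18042, 1477, 17545, 17125, 20380, 6320, 1, 0]) c230) (Model.via _ (mR m0 h0) (fun R => allL (leafB R p17OT (subst [[57]] [0]) [7, 8, 9, 10, 11] [2805, 10112, 14954, 26572, 18042, 1477, 17545, 17125, 20380, 6320, 1, 0] [] []) p17L299) c299) ((m m0 h0).solL_leaves (p17ot m0 h0 hb hc) [0] (Bc := [2805, 10112, 14954, 26572, 18042, 1477, 17545, 17125, 20380, 6320, 1, 0]) (Model.via _ (mR m0 h0) (fun R => cycB R (subst [[57]] [0]) [2805, 10112, 14954, 26572, 18042, 1477, 17545, 17125, 20380, 6320, 1, 0]) c230) (Model.via _ (mR m0 h0) (fun R => allL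 (leafB R p17OT (subst [[57]] [0]) [7, 8, 9, 10, 11] [2805, 10112, 14954, 26572, 18042, 1477, 17545, 17125, 20380, 6320, 1, 0] [] []) p17L298) c298) ((m m0 h0).solL_leaves (p17ot m0 h0 hb hc) [0] (Bc := [2805, 10112, 14954, 26572, 18042, 1477, 17545, 17125, 20380, 6320, 1, 0]) (Model.via _ (mR m0 h0) (fun R => cycB R (subst [[57]] [0]) [2805, 10112, 14954, 26572, 18042, 1477, 17545, 17125, 20380, 6320, 1, 0]) c230) (Model.via _ (mR m0 h0) (fun R => allL (leafB R p17OT (subst [[57]] [0]) [7, 8, 9, 10, 11] [2805, 10112, 14954, 26572, 18042, 1477, 17545, 17125, 20380, 6320, 1, 0] [] []) p17L297) c297) ((m m0 h0).solL_leaves (p17ot m0 h0 hb hc) [0] (Bc := [2805, 10112, 14954, 26572, 18042, 1477, 17545, 17125, 20380, 6320, 1, 0]) (Model.via _ (mR m0 h0) (fun R => cycB R (subst [[57]] [0]) [2805, 10112, 14954, 26572, 18042, 1477, 17545, 17125, 20380, 6320, 1, 0]) c230) (Model.via _ (mR m0 h0) (fun R => allL (leafB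 R p17OT (subst [[57]] [0]) [7, 8, 9, 10, 11] [2805, 10112, 14954, 26572, 18042, 1477, 17545, 17125, 20380, 6320, 1, 0] [] []) p17L296) c296) ((m m0 h0).solL_leaves (p17ot m0 h0 hb hc) [0] (Bc := [2805, 10112, 14954, 26572, 18042, 1477, 17545, 17125, 20380, 6320, 1, 0]) (Model.via _ (mR m0 h0) (fun R => cycB R (subst [[57]] [0]) [2805, 10112, 14954, 26572, 18042, 1477, 17545, 17125, 20380, 6320, 1, 0]) c230) (Model.via _ (mR m0 h0) (fun R => allL (leafB R p17OT (subst [[57]] [0]) [7, 8, 9, 10, 11] [2805, 10112, 14954, 26572, 18042, 1477, 17545, 17125, 20380, 6320, 1, 0] [] []) p17L295) c295) ((m m0 h0).solL_leaves (p17ot m0 h0 hb hc) [0] (Bc := [2805, 10112, 14954, 26572, 18042, 1477, 17545, 17125, 20380, 6320, 1, 0]) (Model.via _ (mR m0 h0) (fun R => cycB R (subst [[57]] [0]) [2805, 10112, 14954, 26572, 18042, 1477, 17545, 17125, 20380, 6320, 1, 0]) c230) (Model.via _ (mR m0 h0) (fun R => allL (leafB R p17OT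 (subst [[57]] [0]) [7, 8, 9, 10, 11] [2805, 10112, 14954, 26572, 18042, 1477, 17545, 17125, 20380, 6320, 1, 0] [] []) p17L294) c294) ((m m0 h0).solL_leaves (p17ot m0 h0 hb hc) [0] (Bc := [2805, 10112, 14954, 26572, 18042, 1477, 17545, 17125, 20380, 6320, 1, 0]) (Model.via _ (mR m0 h0) (fun R => cycB R (subst [[57]] [0]) [2805, 10112, 14954, 26572, 18042, 1477, 17545, 17125, 20380, 6320, 1, 0]) c230) (Model.via _ (mR m0 h0) (fun R => allL (leafB R p17OT (subst [[57]] [0]) [7, 8, 9, 10, 11] [2805, 10112, 14954, 26572, 18042, 1477, 17545, 17125, 20380, 6320, 1, 0] [] []) p17L293) c293) ((m m0 h0).solL_leaves (p17ot m0 h0 hb hc) [0] (Bc := [2805, 10112, 14954, 26572, 18042, 1477, 17545, 17125, 20380, 6320, 1, 0]) (Model.via _ (mR m0 h0) (fun R => cycB R (subst [[57]] [0]) [2805, 10112, 14954, 26572, 18042, 1477, 17545, 17125, 20380, 6320, 1, 0]) c230) (Model.via _ (mR m0 h0) (fun R => allL (leafB R p17OT (subst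 [[57]] [0]) [7, 8, 9, 10, 11] [2805, 10112, 14954, 26572, 18042, 1477, 17545, 17125, 20380, 6320, 1, 0] [] []) p17L292) c292) ((m m0 h0).solL_leaves (p17ot m0 h0 hb hc) [0] (Bc := [2805, 10112, 14954, 26572, 18042, 1477, 17545, 17125, 20380, 6320, 1, 0]) (Model.via _ (mR m0 h0) (fun R => cycB R (subst [[57]] [0]) [2805, 10112, 14954, 26572, 18042, 1477, 17545, 17125, 20380, 6320, 1, 0]) c230) (Model.via _ (mR m0 h0) (fun R => allL (leafB R p17OT (subst [[57]] [0]) [7, 8, 9, 10, 11] [2805, 10112, 14954, 26572, 18042, 1477, 17545, 17125, 20380, 6320, 1, 0] [] []) p17L291) c291) ((m m0 h0).solL_leaves (p17ot m0 h0 hb hc) [0] (Bc := [2805, 10112, 14954, 26572, 18042, 1477, 17545, 17125, 20380, 6320, 1, 0]) (Model.via _ (mR m0 h0) (fun R => cycB R (subst [[57]] [0]) [2805, 10112, 14954, 26572, 18042, 1477, 17545, 17125, 20380, 6320, 1, 0]) c230) (Model.via _ (mR m0 h0) (fun R => allL (leafB R p17OT (subst [[57]]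 [0]) [7, 8, 9, 10, 11] [2805, 10112, 14954, 26572, 18042, 1477, 17545, 17125, 20380, 6320, 1, 0] [] []) p17L290) c290) ((m m0 h0).solL_leaves (p17ot m0 h0 hb hc) [0] (Bc := [2805, 10112, 14954, 26572, 18042, 1477, 17545, 17125, 20380, 6320, 1, 0]) (Model.via _ (mR m0 h0) (fun R => cycB R (subst [[57]] [0]) [2805, 10112, 14954, 26572, 18042, 1477, 17545, 17125, 20380, 6320, 1, 0]) c230) (Model.via _ (mR m0 h0) (fun R => allL (leafB R p17OT (subst [[57]] [0]) [7, 8, 9, 10, 11] [2805, 10112, 14954, 26572, 18042, 1477, 17545, 17125, 20380, 6320, 1, 0] [] []) p17L289) c289) ((m m0 h0).solL_leaves (p17ot m0 h0 hb hc) [0] (Bc := [2805, 10112, 14954, 26572, 18042, 1477, 17545, 17125, 20380, 6320, 1, 0]) (Model.via _ (mR m0 h0) (fun R => cycB R (subst [[57]] [0]) [2805, 10112, 14954, 26572, 18042, 1477, 17545, 17125, 20380, 6320, 1, 0]) c230) (Model.via _ (mR m0 h0) (fun R => allL (leafB R p17OT (subst [[57]] [0])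 [7, 8, 9, 10, 11] [2805, 10112, 14954, 26572, 18042, 1477, 17545, 17125, 20380, 6320, 1, 0] [] []) p17L288) c288) ((m m0 h0).solL_leaves (p17ot m0 h0 hb hc) [0] (Bc := [2805, 10112, 14954, 26572, 18042, 1477, 17545, 17125, 20380, 6320, 1, 0]) (Model.via _ (mR m0 h0) (fun R => cycB R (subst [[57]] [0]) [2805, 10112, 14954, 26572, 18042, 1477, 17545, 17125, 20380, 6320, 1, 0]) c230) (Model.via _ (mR m0 h0) (fun R => allL (leafB R p17OT (subst [[57]] [0]) [7, 8, 9, 10, 11] [2805, 10112, 14954, 26572, 18042, 1477, 17545, 17125, 20380, 6320, 1, 0] [] []) p17L287) c287) ((m m0 h0).solL_leaves (p17ot m0 h0 hb hc) [0] (Bc := [2805, 10112, 14954, 26572, 18042, 1477, 17545, 17125, 20380, 6320, 1, 0]) (Model.via _ (mR m0 h0) (fun R => cycB R (subst [[57]] [0]) [2805, 10112, 14954, 26572, 18042, 1477, 17545, 17125, 20380, 6320, 1, 0]) c230) (Model.via _ (mR m0 h0) (fun R => allL (leafB R p17OT (subst [[57]] [0]) [7,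 8, 9, 10, 11] [2805, 10112, 14954, 26572, 18042, 1477, 17545, 17125, 20380, 6320, 1, 0] [] []) p17L286) c286) ((m m0 h0).solL_leaves (p17ot m0 h0 hb hc) [0] (Bc := [2805, 10112, 14954, 26572, 18042, 1477, 17545, 17125, 20380, 6320, 1, 0]) (Model.via _ (mR m0 h0) (fun R => cycB R (subst [[57]] [0]) [2805, 10112, 14954, 26572, 18042, 1477, 17545, 17125, 20380, 6320, 1, 0]) c230) (Model.via _ (mR m0 h0) (fun R => allL (leafB R p17OT (subst [[57]] [0]) [7, 8, 9, 10, 11] [2805, 10112, 14954, 26572, 18042, 1477, 17545, 17125, 20380, 6320, 1, 0] [] []) p17L285) c285) ((m m0 h0).solL_leaves (p17ot m0 h0 hb hc) [0] (Bc := [2805, 10112, 14954, 26572, 18042, 1477, 17545, 17125, 20380, 6320, 1, 0]) (Model.via _ (mR m0 h0) (fun R => cycB R (subst [[57]] [0]) [2805, 10112, 14954, 26572, 18042, 1477, 17545, 17125, 20380, 6320, 1, 0]) c230) (Model.via _ (mR m0 h0) (fun R => allL (leafB R p17OT (subst [[57]] [0]) [7, 8, 9,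 10, 11] [2805, 10112, 14954, 26572, 18042, 1477, 17545, 17125, 20380, 6320, 1, 0] [] []) p17L284) c284) ((m m0 h0).solL_leaves (p17ot m0 h0 hb hc) [0] (Bc := [2805, 10112, 14954, 26572, 18042, 1477, 17545, 17125, 20380, 6320, 1, 0]) (Model.via _ (mR m0 h0) (fun R => cycB R (subst [[57]] [0]) [2805, 10112, 14954, 26572, 18042, 1477, 17545, 17125, 20380, 6320, 1, 0]) c230) (Model.via _ (mR m0 h0) (fun R => allL (leafB R p17OT (subst [[57]] [0]) [7, 8, 9, 10, 11] [2805, 10112, 14954, 26572, 18042, 1477, 17545, 17125, 20380, 6320, 1, 0] [] []) p17L283) c283) ((m m0 h0).solL_leaves (p17ot m0 h0 hb hc) [0] (Bc := [2805, 10112, 14954, 26572, 18042, 1477, 17545, 17125, 20380, 6320, 1, 0]) (Model.via _ (mR m0 h0) (fun R => cycB R (subst [[57]] [0]) [2805, 10112, 14954, 26572, 18042, 1477, 17545, 17125, 20380, 6320, 1, 0]) c230) (Model.via _ (mR m0 h0) (fun R => allL (leafB R p17OT (subst [[57]] [0]) [7, 8, 9, 10,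 11] [2805, 10112, 14954, 26572, 18042, 1477, 17545, 17125, 20380, 6320, 1, 0] [] []) p17L282) c282) ((m m0 h0).solL_leaves (p17ot m0 h0 hb hc) [0] (Bc := [2805, 10112, 14954, 26572, 18042, 1477, 17545, 17125, 20380, 6320, 1, 0]) (Model.via _ (mR m0 h0) (fun R => cycB R (subst [[57]] [0]) [2805, 10112, 14954, 26572, 18042, 1477, 17545, 17125, 20380, 6320, 1, 0]) c230) (Model.via _ (mR m0 h0) (fun R => allL (leafB R p17OT (subst [[57]] [0]) [7, 8, 9, 10, 11] [2805, 10112, 14954, 26572, 18042, 1477, 17545, 17125, 20380, 6320, 1, 0] [] []) p17L281) c281) ((m m0 h0).solL_leaves (p17ot m0 h0 hb hc) [0] (Bc := [2805, 10112, 14954, 26572, 18042, 1477, 17545, 17125, 20380, 6320, 1, 0]) (Model.via _ (mR m0 h0) (fun R => cycB R (subst [[57]] [0]) [2805, 10112, 14954, 26572, 18042, 1477, 17545, 17125, 20380, 6320, 1, 0]) c230) (Model.via _ (mR m0 h0) (fun R => allL (leafB R p17OT (subst [[57]] [0]) [7, 8, 9, 10, 11]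 [2805, 10112, 14954, 26572, 18042, 1477, 17545, 17125, 20380, 6320, 1, 0] [] []) p17L280) c280) ((m m0 h0).solL_leaves (p17ot m0 h0 hb hc) [0] (Bc := [2805, 10112, 14954, 26572, 18042, 1477, 17545, 17125, 20380, 6320, 1, 0]) (Model.via _ (mR m0 h0) (fun R => cycB R (subst [[57]] [0]) [2805, 10112, 14954, 26572, 18042, 1477, 17545, 17125, 20380, 6320, 1, 0]) c230) (Model.via _ (mR m0 h0) (fun R => allL (leafB R p17OT (subst [[57]] [0]) [7, 8, 9, 10, 11] [2805, 10112, 14954, 26572, 18042, 1477, 17545, 17125, 20380, 6320, 1, 0] [] []) p17L279) c279) ((m m0 h0).solL_leaves (p17ot m0 h0 hb hc) [0] (Bc := [2805, 10112, 14954, 26572, 18042, 1477, 17545, 17125, 20380, 6320, 1, 0]) (Model.via _ (mR m0 h0) (fun R => cycB R (subst [[57]] [0]) [2805, 10112, 14954, 26572, 18042, 1477, 17545, 17125, 20380, 6320, 1, 0]) c230) (Model.via _ (mR m0 h0) (fun R => allL (leafB R p17OT (subst [[57]] [0]) [7, 8, 9, 10, 11] [2805,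 10112, 14954, 26572, 18042, 1477, 17545, 17125, 20380, 6320, 1, 0] [] []) p17L278) c278) ((m m0 h0).solL_leaves (p17ot m0 h0 hb hc) [0] (Bc := [2805, 10112, 14954, 26572, 18042, 1477, 17545, 17125, 20380, 6320, 1, 0]) (Model.via _ (mR m0 h0) (fun R => cycB R (subst [[57]] [0]) [2805, 10112, 14954, 26572, 18042, 1477, 17545, 17125, 20380, 6320, 1, 0]) c230) (Model.via _ (mR m0 h0) (fun R => allL (leafB R p17OT (subst [[57]] [0]) [7, 8, 9, 10, 11] [2805, 10112, 14954, 26572, 18042, 1477, 17545, 17125, 20380, 6320, 1, 0] [] []) p17L277) c277) ((m m0 h0).solL_leaves (p17ot m0 h0 hb hc) [0] (Bc := [2805, 10112, 14954, 26572, 18042, 1477, 17545, 17125, 20380, 6320, 1, 0]) (Model.via _ (mR m0 h0) (fun R => cycB R (subst [[57]] [0]) [2805, 10112, 14954, 26572, 18042, 1477, 17545, 17125, 20380, 6320, 1, 0]) c230) (Model.via _ (mR m0 h0) (fun R => allL (leafB R p17OT (subst [[57]] [0]) [7, 8, 9, 10, 11] [2805, 10112,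 14954, 26572, 18042, 1477, 17545, 17125, 20380, 6320, 1, 0] [] []) p17L276) c276) ((m m0 h0).solL_leaves (p17ot m0 h0 hb hc) [0] (Bc := [2805, 10112, 14954, 26572, 18042, 1477, 17545, 17125, 20380, 6320, 1, 0]) (Model.via _ (mR m0 h0) (fun R => cycB R (subst [[57]] [0]) [2805, 10112, 14954, 26572, 18042, 1477, 17545, 17125, 20380, 6320, 1, 0]) c230) (Model.via _ (mR m0 h0) (fun R => allL (leafB R p17OT (subst [[57]] [0]) [7, 8, 9, 10, 11] [2805, 10112, 14954, 26572, 18042, 1477, 17545, 17125, 20380, 6320, 1, 0] [] []) p17L275) c275) ((m m0 h0).solL_leaves (p17ot m0 h0 hb hc) [0] (Bc := [2805, 10112, 14954, 26572, 18042, 1477, 17545, 17125, 20380, 6320, 1, 0]) (Model.via _ (mR m0 h0) (fun R => cycB R (subst [[57]] [0]) [2805, 10112, 14954, 26572, 18042, 1477, 17545, 17125, 20380, 6320, 1, 0]) c230) (Model.via _ (mR m0 h0) (fun R => allL (leafB R p17OT (subst [[57]] [0]) [7, 8, 9, 10, 11] [2805, 10112, 14954,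 26572, 18042, 1477, 17545, 17125, 20380, 6320, 1, 0] [] []) p17L274) c274) ((m m0 h0).solL_leaves (p17ot m0 h0 hb hc) [0] (Bc := [2805, 10112, 14954, 26572, 18042, 1477, 17545, 17125, 20380, 6320, 1, 0]) (Model.via _ (mR m0 h0) (fun R => cycB R (subst [[57]] [0]) [2805, 10112, 14954, 26572, 18042, 1477, 17545, 17125, 20380, 6320, 1, 0]) c230) (Model.via _ (mR m0 h0) (fun R => allL (leafB R p17OT (subst [[57]] [0]) [7, 8, 9, 10, 11] [2805, 10112, 14954, 26572, 18042, 1477, 17545, 17125, 20380, 6320, 1, 0] [] []) p17L273) c273) ((m m0 h0).solL_leaves (p17ot m0 h0 hb hc) [0] (Bc := [2805, 10112, 14954, 26572, 18042, 1477, 17545, 17125, 20380, 6320, 1, 0]) (Model.via _ (mR m0 h0) (fun R => cycB R (subst [[57]] [0]) [2805, 10112, 14954, 26572, 18042, 1477, 17545, 17125, 20380, 6320, 1, 0]) c230) (Model.via _ (mR m0 h0) (fun R => allL (leafB R p17OT (subst [[57]] [0]) [7, 8, 9, 10, 11] [2805, 10112, 14954, 26572,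 18042, 1477, 17545, 17125, 20380, 6320, 1, 0] [] []) p17L272) c272) ((m m0 h0).solL_leaves (p17ot m0 h0 hb hc) [0] (Bc := [2805, 10112, 14954, 26572, 18042, 1477, 17545, 17125, 20380, 6320, 1, 0]) (Model.via _ (mR m0 h0) (fun R => cycB R (subst [[57]] [0]) [2805, 10112, 14954, 26572, 18042, 1477, 17545, 17125, 20380, 6320, 1, 0]) c230) (Model.via _ (mR m0 h0) (fun R => allL (leafB R p17OT (subst [[57]] [0]) [7, 8, 9, 10, 11] [2805, 10112, 14954, 26572, 18042, 1477, 17545, 17125, 20380, 6320, 1, 0] [] []) p17L271) c271) ((m m0 h0).solL_leaves (p17ot m0 h0 hb hc) [0] (Bc := [2805, 10112, 14954, 26572, 18042, 1477, 17545, 17125, 20380, 6320, 1, 0]) (Model.via _ (mR m0 h0) (fun R => cycB R (subst [[57]] [0]) [2805, 10112, 14954, 26572, 18042, 1477, 17545, 17125, 20380, 6320, 1, 0]) c230) (Model.via _ (mR m0 h0) (fun R => allL (leafB R p17OT (subst [[57]] [0]) [7, 8, 9, 10, 11] [2805, 10112, 14954, 26572, 18042,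 1477, 17545, 17125, 20380, 6320, 1, 0] [] []) p17L270) c270) ((m m0 h0).solL_leaves (p17ot m0 h0 hb hc) [0] (Bc := [2805, 10112, 14954, 26572, 18042, 1477, 17545, 17125, 20380, 6320, 1, 0]) (Model.via _ (mR m0 h0) (fun R => cycB R (subst [[57]] [0]) [2805, 10112, 14954, 26572, 18042, 1477, 17545, 17125, 20380, 6320, 1, 0]) c230) (Model.via _ (mR m0 h0) (fun R => allL (leafB R p17OT (subst [[57]] [0]) [7, 8, 9, 10, 11] [2805, 10112, 14954, 26572, 18042, 1477, 17545, 17125, 20380, 6320, 1, 0] [] []) p17L269) c269) ((m m0 h0).solL_leaves (p17ot m0 h0 hb hc) [0] (Bc := [2805, 10112, 14954, 26572, 18042, 1477, 17545, 17125, 20380, 6320, 1, 0]) (Model.via _ (mR m0 h0) (fun R => cycB R (subst [[57]] [0]) [2805, 10112, 14954, 26572, 18042, 1477, 17545, 17125, 20380, 6320, 1, 0]) c230) (Model.via _ (mR m0 h0) (fun R => allL (leafB R p17OT (subst [[57]] [0]) [7, 8, 9, 10, 11] [2805, 10112, 14954, 26572, 18042, 1477,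 17545, 17125, 20380, 6320, 1, 0] [] []) p17L268) c268) ((m m0 h0).solL_leaves (p17ot m0 h0 hb hc) [0] (Bc := [2805, 10112, 14954, 26572, 18042, 1477, 17545, 17125, 20380, 6320, 1, 0]) (Model.via _ (mR m0 h0) (fun R => cycB R (subst [[57]] [0]) [2805, 10112, 14954, 26572, 18042, 1477, 17545, 17125, 20380, 6320, 1, 0]) c230) (Model.via _ (mR m0 h0) (fun R => allL (leafB R p17OT (subst [[57]] [0]) [7, 8, 9, 10, 11] [2805, 10112, 14954, 26572, 18042, 1477, 17545, 17125, 20380, 6320, 1, 0] [] []) p17L267) c267) ((m m0 h0).solL_leaves (p17ot m0 h0 hb hc) [0] (Bc := [2805, 10112, 14954, 26572, 18042, 1477, 17545, 17125, 20380, 6320, 1, 0]) (Model.via _ (mR m0 h0) (fun R => cycB R (subst [[57]] [0]) [2805, 10112, 14954, 26572, 18042, 1477, 17545, 17125, 20380, 6320, 1, 0]) c230) (Model.via _ (mR m0 h0) (fun R => allL (leafB R p17OT (subst [[57]] [0]) [7, 8, 9, 10, 11] [2805, 10112, 14954, 26572, 18042, 1477, 17545,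 17125, 20380, 6320, 1, 0] [] []) p17L266) c266) ((m m0 h0).solL_leaves (p17ot m0 h0 hb hc) [0] (Bc := [2805, 10112, 14954, 26572, 18042, 1477, 17545, 17125, 20380, 6320, 1, 0]) (Model.via _ (mR m0 h0) (fun R => cycB R (subst [[57]] [0]) [2805, 10112, 14954, 26572, 18042, 1477, 17545, 17125, 20380, 6320, 1, 0]) c230) (Model.via _ (mR m0 h0) (fun R => allL (leafB R p17OT (subst [[57]] [0]) [7, 8, 9, 10, 11] [2805, 10112, 14954, 26572, 18042, 1477, 17545, 17125, 20380, 6320, 1, 0] [] []) p17L265) c265) ((m m0 h0).solL_leaves (p17ot m0 h0 hb hc) [0] (Bc := [2805, 10112, 14954, 26572, 18042, 1477, 17545, 17125, 20380, 6320, 1, 0]) (Model.via _ (mR m0 h0) (fun R => cycB R (subst [[57]] [0]) [2805, 10112, 14954, 26572, 18042, 1477, 17545, 17125, 20380, 6320, 1, 0]) c230) (Model.via _ (mR m0 h0) (fun R => allL (leafB R p17OT (subst [[57]] [0]) [7, 8, 9, 10, 11] [2805, 10112, 14954, 26572, 18042, 1477, 17545, 17125,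 20380, 6320, 1, 0] [] []) p17L264) c264) ((m m0 h0).solL_leaves (p17ot m0 h0 hb hc) [0] (Bc := [2805, 10112, 14954, 26572, 18042, 1477, 17545, 17125, 20380, 6320, 1, 0]) (Model.via _ (mR m0 h0) (fun R => cycB R (subst [[57]] [0]) [2805, 10112, 14954, 26572, 18042, 1477, 17545, 17125, 20380, 6320, 1, 0]) c230) (Model.via _ (mR m0 h0) (fun R => allL (leafB R p17OT (subst [[57]] [0]) [7, 8, 9, 10, 11] [2805, 10112, 14954, 26572, 18042, 1477, 17545, 17125, 20380, 6320, 1, 0] [] []) p17L263) c263) ((m m0 h0).solL_leaves (p17ot m0 h0 hb hc) [0] (Bc := [2805, 10112, 14954, 26572, 18042, 1477, 17545, 17125, 20380, 6320, 1, 0]) (Model.via _ (mR m0 h0) (fun R => cycB R (subst [[57]] [0]) [2805, 10112, 14954, 26572, 18042, 1477, 17545, 17125, 20380, 6320, 1, 0]) c230) (Model.via _ (mR m0 h0) (fun R => allL (leafB R p17OT (subst [[57]] [0]) [7, 8, 9, 10, 11] [2805, 10112, 14954, 26572, 18042, 1477, 17545, 17125, 20380,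 6320, 1, 0] [] []) p17L262) c262) ((m m0 h0).solL_leaves (p17ot m0 h0 hb hc) [0] (Bc := [2805, 10112, 14954, 26572, 18042, 1477, 17545, 17125, 20380, 6320, 1, 0]) (Model.via _ (mR m0 h0) (fun R => cycB R (subst [[57]] [0]) [2805, 10112, 14954, 26572, 18042, 1477, 17545, 17125, 20380, 6320, 1, 0]) c230) (Model.via _ (mR m0 h0) (fun R => allL (leafB R p17OT (subst [[57]] [0]) [7, 8, 9, 10, 11] [2805, 10112, 14954, 26572, 18042, 1477, 17545, 17125, 20380, 6320, 1, 0] [] []) p17L261) c261) ((m m0 h0).solL_leaves (p17ot m0 h0 hb hc) [0] (Bc := [2805, 10112, 14954, 26572, 18042, 1477, 17545, 17125, 20380, 6320, 1, 0]) (Model.via _ (mR m0 h0) (fun R => cycB R (subst [[57]] [0]) [2805, 10112, 14954, 26572, 18042, 1477, 17545, 17125, 20380, 6320, 1, 0]) c230) (Model.via _ (mR m0 h0) (fun R => allL (leafB R p17OT (subst [[57]] [0]) [7, 8, 9, 10, 11] [2805, 10112, 14954, 26572, 18042, 1477, 17545, 17125, 20380, 6320,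 1, 0] [] []) p17L260) c260) ((m m0 h0).solL_leaves (p17ot m0 h0 hb hc) [0] (Bc := [2805, 10112, 14954, 26572, 18042, 1477, 17545, 17125, 20380, 6320, 1, 0]) (Model.via _ (mR m0 h0) (fun R => cycB R (subst [[57]] [0]) [2805, 10112, 14954, 26572, 18042, 1477, 17545, 17125, 20380, 6320, 1, 0]) c230) (Model.via _ (mR m0 h0) (fun R => allL (leafB R p17OT (subst [[57]] [0]) [7, 8, 9, 10, 11] [2805, 10112, 14954, 26572, 18042, 1477, 17545, 17125, 20380, 6320, 1, 0] [] []) p17L259) c259) ((m m0 h0).solL_leaves (p17ot m0 h0 hb hc) [0] (Bc := [2805, 10112, 14954, 26572, 18042, 1477, 17545, 17125, 20380, 6320, 1, 0]) (Model.via _ (mR m0 h0) (fun R => cycB R (subst [[57]] [0]) [2805, 10112, 14954, 26572, 18042, 1477, 17545, 17125, 20380, 6320, 1, 0]) c230) (Model.via _ (mR m0 h0) (fun R => allL (leafB R p17OT (subst [[57]] [0]) [7, 8, 9, 10, 11] [2805, 10112, 14954, 26572, 18042, 1477, 17545, 17125, 20380, 6320, 1, 0]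 [] []) p17L258) c258) ((m m0 h0).solL_leaves (p17ot m0 h0 hb hc) [0] (Bc := [2805, 10112, 14954, 26572, 18042, 1477, 17545, 17125, 20380, 6320, 1, 0]) (Model.via _ (mR m0 h0) (fun R => cycB R (subst [[57]] [0]) [2805, 10112, 14954, 26572, 18042, 1477, 17545, 17125, 20380, 6320, 1, 0]) c230) (Model.via _ (mR m0 h0) (fun R => allL (leafB R p17OT (subst [[57]] [0]) [7, 8, 9, 10, 11] [2805, 10112, 14954, 26572, 18042, 1477, 17545, 17125, 20380, 6320, 1, 0] [] []) p17L257) c257) ((m m0 h0).solL_leaves (p17ot m0 h0 hb hc) [0] (Bc := [2805, 10112, 14954, 26572, 18042, 1477, 17545, 17125, 20380, 6320, 1, 0]) (Model.via _ (mR m0 h0) (fun R => cycB R (subst [[57]] [0]) [2805, 10112, 14954, 26572, 18042, 1477, 17545, 17125, 20380, 6320, 1, 0]) c230) (Model.via _ (mR m0 h0) (fun R => allL (leafB R p17OT (subst [[57]] [0]) [7, 8, 9, 10, 11] [2805, 10112, 14954, 26572, 18042, 1477, 17545, 17125, 20380, 6320, 1, 0] [] [])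 p17L256) c256) ((m m0 h0).solL_leaves (p17ot m0 h0 hb hc) [0] (Bc := [2805, 10112, 14954, 26572, 18042, 1477, 17545, 17125, 20380, 6320, 1, 0]) (Model.via _ (mR m0 h0) (fun R => cycB R (subst [[57]] [0]) [2805, 10112, 14954, 26572, 18042, 1477, 17545, 17125, 20380, 6320, 1, 0]) c230) (Model.via _ (mR m0 h0) (fun R => allL (leafB R p17OT (subst [[57]] [0]) [7, 8, 9, 10, 11] [2805, 10112, 14954, 26572, 18042, 1477, 17545, 17125, 20380, 6320, 1, 0] [] []) p17L255) c255) ((m m0 h0).solL_leaves (p17ot m0 h0 hb hc) [0] (Bc := [2805, 10112, 14954, 26572, 18042, 1477, 17545, 17125, 20380, 6320, 1, 0]) (Model.via _ (mR m0 h0) (fun R => cycB R (subst [[57]] [0]) [2805, 10112, 14954, 26572, 18042, 1477, 17545, 17125, 20380, 6320, 1, 0]) c230) (Model.via _ (mR m0 h0) (fun R => allL (leafB R p17OT (subst [[57]] [0]) [7, 8, 9, 10, 11] [2805, 10112, 14954, 26572, 18042, 1477, 17545, 17125, 20380, 6320, 1, 0] [] []) p17L254)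 c254) ((m m0 h0).solL_leaves (p17ot m0 h0 hb hc) [0] (Bc := [2805, 10112, 14954, 26572, 18042, 1477, 17545, 17125, 20380, 6320, 1, 0]) (Model.via _ (mR m0 h0) (fun R => cycB R (subst [[57]] [0]) [2805, 10112, 14954, 26572, 18042, 1477, 17545, 17125, 20380, 6320, 1, 0]) c230) (Model.via _ (mR m0 h0) (fun R => allL (leafB R p17OT (subst [[57]] [0]) [7, 8, 9, 10, 11] [2805, 10112, 14954, 26572, 18042, 1477, 17545, 17125, 20380, 6320, 1, 0] [] []) p17L253) c253) ((m m0 h0).solL_leaves (p17ot m0 h0 hb hc) [0] (Bc := [2805, 10112, 14954, 26572, 18042, 1477, 17545, 17125, 20380, 6320, 1, 0]) (Model.via _ (mR m0 h0) (fun R => cycB R (subst [[57]] [0]) [2805, 10112, 14954, 26572, 18042, 1477, 17545, 17125, 20380, 6320, 1, 0]) c230) (Model.via _ (mR m0 h0) (fun R => allL (leafB R p17OT (subst [[57]] [0]) [7, 8, 9, 10, 11] [2805, 10112, 14954, 26572, 18042, 1477, 17545, 17125, 20380, 6320, 1, 0] [] []) p17L252) c252)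 ((m m0 h0).solL_leaves (p17ot m0 h0 hb hc) [0] (Bc := [2805, 10112, 14954, 26572, 18042, 1477, 17545, 17125, 20380, 6320, 1, 0]) (Model.via _ (mR m0 h0) (fun R => cycB R (subst [[57]] [0]) [2805, 10112, 14954, 26572, 18042, 1477, 17545, 17125, 20380, 6320, 1, 0]) c230) (Model.via _ (mR m0 h0) (fun R => allL (leafB R p17OT (subst [[57]] [0]) [7, 8, 9, 10, 11] [2805, 10112, 14954, 26572, 18042, 1477, 17545, 17125, 20380, 6320, 1, 0] [] []) p17L251) c251) ((m m0 h0).solL_leaves (p17ot m0 h0 hb hc) [0] (Bc := [2805, 10112, 14954, 26572, 18042, 1477, 17545, 17125, 20380, 6320, 1, 0]) (Model.via _ (mR m0 h0) (fun R => cycB R (subst [[57]] [0]) [2805, 10112, 14954, 26572, 18042, 1477, 17545, 17125, 20380, 6320, 1, 0]) c230) (Model.via _ (mR m0 h0) (fun R => allL (leafB R p17OT (subst [[57]] [0]) [7, 8, 9, 10, 11] [2805, 10112, 14954, 26572, 18042, 1477, 17545, 17125, 20380, 6320, 1, 0] [] []) p17L250) c250) ((m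 m0 h0).solL_leaves (p17ot m0 h0 hb hc) [0] (Bc := [2805, 10112, 14954, 26572, 18042, 1477, 17545, 17125, 20380, 6320, 1, 0]) (Model.via _ (mR m0 h0) (fun R => cycB R (subst [[57]] [0]) [2805, 10112, 14954, 26572, 18042, 1477, 17545, 17125, 20380, 6320, 1, 0]) c230) (Model.via _ (mR m0 h0) (fun R => allL (leafB R p17OT (subst [[57]] [0]) [7, 8, 9, 10, 11] [2805, 10112, 14954, 26572, 18042, 1477, 17545, 17125, 20380, 6320, 1, 0] [] []) p17L249) c249) ((m m0 h0).solL_leaves (p17ot m0 h0 hb hc) [0] (Bc := [2805, 10112, 14954, 26572, 18042, 1477, 17545, 17125, 20380, 6320, 1, 0]) (Model.via _ (mR m0 h0) (fun R => cycB R (subst [[57]] [0]) [2805, 10112, 14954, 26572, 18042, 1477, 17545, 17125, 20380, 6320, 1, 0]) c230) (Model.via _ (mR m0 h0) (fun R => allL (leafB R p17OT (subst [[57]] [0]) [7, 8, 9, 10, 11] [2805, 10112, 14954, 26572, 18042, 1477, 17545, 17125, 20380, 6320, 1, 0] [] []) p17L248) c248) ((m m0 h0).solL_leaves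 (p17ot m0 h0 hb hc) [0] (Bc := [2805, 10112, 14954, 26572, 18042, 1477, 17545, 17125, 20380, 6320, 1, 0]) (Model.via _ (mR m0 h0) (fun R => cycB R (subst [[57]] [0]) [2805, 10112, 14954, 26572, 18042, 1477, 17545, 17125, 20380, 6320, 1, 0]) c230) (Model.via _ (mR m0 h0) (fun R => allL (leafB R p17OT (subst [[57]] [0]) [7, 8, 9, 10, 11] [2805, 10112, 14954, 26572, 18042, 1477, 17545, 17125, 20380, 6320, 1, 0] [] []) p17L247) c247) ((m m0 h0).solL_leaves (p17ot m0 h0 hb hc) [0] (Bc := [2805, 10112, 14954, 26572, 18042, 1477, 17545, 17125, 20380, 6320, 1, 0]) (Model.via _ (mR m0 h0) (fun R => cycB R (subst [[57]] [0]) [2805, 10112, 14954, 26572, 18042, 1477, 17545, 17125, 20380, 6320, 1, 0]) c230) (Model.via _ (mR m0 h0) (fun R => allL (leafB R p17OT (subst [[57]] [0]) [7, 8, 9, 10, 11] [2805, 10112, 14954, 26572, 18042, 1477, 17545, 17125, 20380, 6320, 1, 0] [] []) p17L246) c246) ((m m0 h0).solL_leaves (p17ot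 m0 h0 hb hc) [0] (Bc := [2805, 10112, 14954, 26572, 18042, 1477, 17545, 17125, 20380, 6320, 1, 0]) (Model.via _ (mR m0 h0) (fun R => cycB R (subst [[57]] [0]) [2805, 10112, 14954, 26572, 18042, 1477, 17545, 17125, 20380, 6320, 1, 0]) c230) (Model.via _ (mR m0 h0) (fun R => allL (leafB R p17OT (subst [[57]] [0]) [7, 8, 9, 10, 11] [2805, 10112, 14954, 26572, 18042, 1477, 17545, 17125, 20380, 6320, 1, 0] [] []) p17L245) c245) ((m m0 h0).solL_leaves (p17ot m0 h0 hb hc) [0] (Bc := [2805, 10112, 14954, 26572, 18042, 1477, 17545, 17125, 20380, 6320, 1, 0]) (Model.via _ (mR m0 h0) (fun R => cycB R (subst [[57]] [0]) [2805, 10112, 14954, 26572, 18042, 1477, 17545, 17125, 20380, 6320, 1, 0]) c230) (Model.via _ (mR m0 h0) (fun R => allL (leafB R p17OT (subst [[57]] [0]) [7, 8, 9, 10, 11] [2805, 10112, 14954, 26572, 18042, 1477, 17545, 17125, 20380, 6320, 1, 0] [] []) p17L244) c244) ((m m0 h0).solL_leaves (p17ot m0 h0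 hb hc) [0] (Bc := [2805, 10112, 14954, 26572, 18042, 1477, 17545, 17125, 20380, 6320, 1, 0]) (Model.via _ (mR m0 h0) (fun R => cycB R (subst [[57]] [0]) [2805, 10112, 14954, 26572, 18042, 1477, 17545, 17125, 20380, 6320, 1, 0]) c230) (Model.via _ (mR m0 h0) (fun R => allL (leafB R p17OT (subst [[57]] [0]) [7, 8, 9, 10, 11] [2805, 10112, 14954, 26572, 18042, 1477, 17545, 17125, 20380, 6320, 1, 0] [] []) p17L243) c243) ((m m0 h0).solL_leaves (p17ot m0 h0 hb hc) [0] (Bc := [2805, 10112, 14954, 26572, 18042, 1477, 17545, 17125, 20380, 6320, 1, 0]) (Model.via _ (mR m0 h0) (fun R => cycB R (subst [[57]] [0]) [2805, 10112, 14954, 26572, 18042, 1477, 17545, 17125, 20380, 6320, 1, 0]) c230) (Model.via _ (mR m0 h0) (fun R => allL (leafB R p17OT (subst [[57]] [0]) [7, 8, 9, 10, 11] [2805, 10112, 14954, 26572, 18042, 1477, 17545, 17125, 20380, 6320, 1, 0] [] []) p17L242) c242) ((m m0 h0).solL_leaves (p17ot m0 h0 hb hc)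 [0] (Bc := [2805, 10112, 14954, 26572, 18042, 1477, 17545, 17125, 20380, 6320, 1, 0]) (Model.via _ (mR m0 h0) (fun R => cycB R (subst [[57]] [0]) [2805, 10112, 14954, 26572, 18042, 1477, 17545, 17125, 20380, 6320, 1, 0]) c230) (Model.via _ (mR m0 h0) (fun R => allL (leafB R p17OT (subst [[57]] [0]) [7, 8, 9, 10, 11] [2805, 10112, 14954, 26572, 18042, 1477, 17545, 17125, 20380, 6320, 1, 0] [] []) p17L241) c241) ((m m0 h0).solL_leaves (p17ot m0 h0 hb hc) [0] (Bc := [2805, 10112, 14954, 26572, 18042, 1477, 17545, 17125, 20380, 6320, 1, 0]) (Model.via _ (mR m0 h0) (fun R => cycB R (subst [[57]] [0]) [2805, 10112, 14954, 26572, 18042, 1477, 17545, 17125, 20380, 6320, 1, 0]) c230) (Model.via _ (mR m0 h0) (fun R => allL (leafB R p17OT (subst [[57]] [0]) [7, 8, 9, 10, 11] [2805, 10112, 14954, 26572, 18042, 1477, 17545, 17125, 20380, 6320, 1, 0] [] []) p17L240) c240) ((m m0 h0).solL_leaves (p17ot m0 h0 hb hc) [0]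 (Bc := [2805, 10112, 14954, 26572, 18042, 1477, 17545, 17125, 20380, 6320, 1, 0]) (Model.via _ (mR m0 h0) (fun R => cycB R (subst [[57]] [0]) [2805, 10112, 14954, 26572, 18042, 1477, 17545, 17125, 20380, 6320, 1, 0]) c230) (Model.via _ (mR m0 h0) (fun R => allL (leafB R p17OT (subst [[57]] [0]) [7, 8, 9, 10, 11] [2805, 10112, 14954, 26572, 18042, 1477, 17545, 17125, 20380, 6320, 1, 0] [] []) p17L239) c239) ((m m0 h0).solL_leaves (p17ot m0 h0 hb hc) [0] (Bc := [2805, 10112, 14954, 26572, 18042, 1477, 17545, 17125, 20380, 6320, 1, 0]) (Model.via _ (mR m0 h0) (fun R => cycB R (subst [[57]] [0]) [2805, 10112, 14954, 26572, 18042, 1477, 17545, 17125, 20380, 6320, 1, 0]) c230) (Model.via _ (mR m0 h0) (fun R => allL (leafB R p17OT (subst [[57]] [0]) [7, 8, 9, 10, 11] [2805, 10112, 14954, 26572, 18042, 1477, 17545, 17125, 20380, 6320, 1, 0] [] []) p17L238) c238) ((m m0 h0).solL_leaves (p17ot m0 h0 hb hc) [0] (Bc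 := [2805, 10112, 14954, 26572, 18042, 1477, 17545, 17125, 20380, 6320, 1, 0]) (Model.via _ (mR m0 h0) (fun R => cycB R (subst [[57]] [0]) [2805, 10112, 14954, 26572, 18042, 1477, 17545, 17125, 20380, 6320, 1, 0]) c230) (Model.via _ (mR m0 h0) (fun R => allL (leafB R p17OT (subst [[57]] [0]) [7, 8, 9, 10, 11] [2805, 10112, 14954, 26572, 18042, 1477, 17545, 17125, 20380, 6320, 1, 0] [] []) p17L237) c237) ((m m0 h0).solL_leaves (p17ot m0 h0 hb hc) [0] (Bc := [2805, 10112, 14954, 26572, 18042, 1477, 17545, 17125, 20380, 6320, 1, 0]) (Model.via _ (mR m0 h0) (fun R => cycB R (subst [[57]] [0]) [2805, 10112, 14954, 26572, 18042, 1477, 17545, 17125, 20380, 6320, 1, 0]) c230) (Model.via _ (mR m0 h0) (fun R => allL (leafB R p17OT (subst [[57]] [0]) [7, 8, 9, 10, 11] [2805, 10112, 14954, 26572, 18042, 1477, 17545, 17125, 20380, 6320, 1, 0] [] []) p17L236) c236) ((m m0 h0).solL_leaves (p17ot m0 h0 hb hc) [0] (Bc := [2805,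 10112, 14954, 26572, 18042, 1477, 17545, 17125, 20380, 6320, 1, 0]) (Model.via _ (mR m0 h0) (fun R => cycB R (subst [[57]] [0]) [2805, 10112, 14954, 26572, 18042, 1477, 17545, 17125, 20380, 6320, 1, 0]) c230) (Model.via _ (mR m0 h0) (fun R => allL (leafB R p17OT (subst [[57]] [0]) [7, 8, 9, 10, 11] [2805, 10112, 14954, 26572, 18042, 1477, 17545, 17125, 20380, 6320, 1, 0] [] []) p17L235) c235) ((m m0 h0).solL_leaves (p17ot m0 h0 hb hc) [0] (Bc := [2805, 10112, 14954, 26572, 18042, 1477, 17545, 17125, 20380, 6320, 1, 0]) (Model.via _ (mR m0 h0) (fun R => cycB R (subst [[57]] [0]) [2805, 10112, 14954, 26572, 18042, 1477, 17545, 17125, 20380, 6320, 1, 0]) c230) (Model.via _ (mR m0 h0) (fun R => allL (leafB R p17OT (subst [[57]] [0]) [7, 8, 9, 10, 11] [2805, 10112, 14954, 26572, 18042, 1477, 17545, 17125, 20380, 6320, 1, 0] [] []) p17L234) c234) ((m m0 h0).solL_leaves (p17ot m0 h0 hb hc) [0] (Bc := [2805, 10112,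 14954, 26572, 18042, 1477, 17545, 17125, 20380, 6320, 1, 0]) (Model.via _ (mR m0 h0) (fun R => cycB R (subst [[57]] [0]) [2805, 10112, 14954, 26572, 18042, 1477, 17545, 17125, 20380, 6320, 1, 0]) c230) (Model.via _ (mR m0 h0) (fun R => allL (leafB R p17OT (subst [[57]] [0]) [7, 8, 9, 10, 11] [2805, 10112, 14954, 26572, 18042, 1477, 17545, 17125, 20380, 6320, 1, 0] [] []) p17L233) c233) ((m m0 h0).solL_leaves (p17ot m0 h0 hb hc) [0] (Bc := [2805, 10112, 14954, 26572, 18042, 1477, 17545, 17125, 20380, 6320, 1, 0]) (Model.via _ (mR m0 h0) (fun R => cycB R (subst [[57]] [0]) [2805, 10112, 14954, 26572, 18042, 1477, 17545, 17125, 20380, 6320, 1, 0]) c230) (Model.via _ (mR m0 h0) (fun R => allL (leafB R p17OT (subst [[57]] [0]) [7, 8, 9, 10, 11] [2805, 10112, 14954, 26572, 18042, 1477, 17545, 17125, 20380, 6320, 1, 0] [] []) p17L232) c232) ((m m0 h0).solL_cons ((m m0 h0).sol_cyc [0] (Bc := [2805, 10112, 14954,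 26572, 18042, 1477, 17545, 17125, 20380, 6320, 1, 0]) (T := [2805, 10112, 14954, 26572, 18042, 1477, 17545, 17125, 20380, 6320, 1, 0]) rfl (Model.via _ (mR m0 h0) (fun R => cycB R (subst [[57]] [0]) [2805, 10112, 14954, 26572, 18042, 1477, 17545, 17125, 20380, 6320, 1, 0]) c230) (Model.via _ (mR m0 h0) (fun R => cycB R (subst [[57]] [0]) [2805, 10112, 14954, 26572, 18042, 1477, 17545, 17125, 20380, 6320, 1, 0]) c231) (p17n1 m0 h0 hb hc)) (m m0 h0).solL_nil))))))))))))))))))))))))))))))))))))))))))))))))))))))))))))))))))))))))))))))))))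
theorem p17sol : (m m0 h0).Sol [[57]] p17Cg [] [] := p17n0 m0 h0 hb hc
theorem ne17 : ev (m m0 h0).g [57] ≠ ev (m m0 h0).g [] := ((m m0 h0).ne_of_neB (Model.via _ (mR m0 h0) (fun R => neB R [57] [] 0 1 0) c321))
theorem r17 : ∀ e ∈ r17E, ev (m m0 h0).g e.1 = ev (m m0 h0).g e.2 := (all_take_done (all_take_step (all_take_zero _ r17E) ((m m0 h0).pairs_of (base m0 h0 hb hc) (Model.via _ (mR m0 h0) (fun R => pairsB R [2, 20380, 6320, 1, 0] ((r17E.drop 0).take 1)) c322))) (by decide +kernel))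
end H6M.SF23
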