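import Cfsg.Agent.H6.SF23.D
set_option maxRecDepth 100000
set_option Elab.async false
set_option linter.unusedSectionVars false
namespace H6M.SF23
open H0 BN 
theorem c0 : Model.fixP R [28528, 31342, 56, 31346, 31341, 31517, 31344, 31345, 31670] [[30, 29, 30, 30, 29, 30, 29, 29, 29, 30, 30, 30, 29, 29]] = true := by decide +kernel
theorem c1 : Model.growP R [[30, 29, 30, 30, 29, 30, 29, 29, 29, 30, 30, 30, 29, 29]] [0] 3528 2 = true := by decide +kernel
theorem c2 : Model.fixP R [31342, 56, 31346, 31341, 31517, 31344, 31345, 31670] [[30, 30, 30, 30], [29, 29, 29, 29, 30, 29, 30, 29, 30, 29, 29, 29, 29]] = true := by decide +kernel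
theorem c3 : Model.growP R [[30, 30, 30, 30], [29, 29, 29, 29, 30, 29, 30, 29, 30, 29, 29, 29, 29]] [0, 0] 28528 3 = true := by decide +kernel
theorem c4 : Model.fixP R [56, 31346, 31341, 31517, 31344, 31345, 31670] [[30, 29, 30, 30], [30, 30, 30, 30]] = true := by decide +kernel
theorem c5 : Model.growP R [[30, 29, 30, 30], [30, 30, 30, 30]] [0, 0, 0] 31342 4 = true := by decide +kernel
theorem c6 : Model.fixP R [31346, 31341, 31517, 31344, 31345, 31670] [[29, 29, 30, 30], [30, 29, 30, 30], [29, 30, 30, 30]] = true := by decide +kernel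
theorem c7 : Model.growP R [[29, 29, 30, 30], [30, 29, 30, 30], [29, 30, 30, 30]] [0, 1, 1, 0] 56 5 = true := by decide +kernel
theorem c8 : Model.fixP R [31341, 31517, 31344, 31345, 31670] [[29, 29, 29, 30], [30, 29, 29, 30], [29, 30, 29, 30]] = true := by decide +kernel
theorem c9 : Model.growP R [[29, 29, 29, 30], [30, 29, 29, 30], [29, 30, 29, 30]] [0, 0, 0, 0, 0] 31346 6 = true := by decide +kernel
theorem c10 : Model.fixP R [31517, 31344, 31345, 31670] [[29], [30]] = true := by decide +kernel
theorem c11 : Model.growP R [[29], [30]] [0, 0, 0, 0, 0, 0] 31341 7 = true := by decide +kernel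
theorem c12 : Model.fixP R [31344, 31345, 31670] [[27], [28]] = true := by decide +kernel
theorem c13 : Model.growP R [[27], [28]] [0, 1, 0, 1, 0, 1, 0, 1, 0, 1, 0, 1, 0, 0, 1] 31517 288 = true := by decide +kernel
theorem c14 : Model.fixP R [31345, 31670] [[25], [26]] = true := by decide +kernel
theorem c15 : Model.growP R [[25], [26]] [0, 1, 0, 1, 0, 1, 0, 1, 0, 1, 0, 1, 0, 1, 0, 1, 0, 1, 0, 1] 31344 3159 = true := by decide +kernel
theorem c16 : Model.fixP R [31670] [[23], [24]] = true := by decide +kernel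
theorem c17 : Model.growP R [[23], [24]] [0, 1, 0, 1, 0, 1, 0, 1, 0, 1, 0, 1, 0, 1, 0, 1, 0, 1, 0, 1, 0, 1, 0, 1, 0, 1] 31345 28160 = true := by decide +kernel
theorem c18 : Model.fixP R [] [[10], [11]] = true := by decide +kernel
theorem c19 : Model.growP R [[10], [11]] [0, 0, 1, 0, 1, 0, 1, 0, 1, 0, 1, 0, 1, 0, 1, 0, 1, 0, 1, 0, 1, 0, 1, 0, 1, 0, 1, 0] 31670 31671 = true := by decide +kernel
theorem c20 : cycB R (subst [[31]] []) [31670] = true := by decide +kernel
theorem c21 : cycB R (subst [[31]] []) [31345] = true := by decide +kernel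
theorem c22 : cycB R (subst [[31]] []) [31344] = true := by decide +kernel
theorem c23 : cycB R (subst [[31]] []) [31517] = true := by decide +kernel
theorem c24 : cycB R (subst [[31]] []) [31341] = true := by decide +kernel
theorem c25 : cycB R (subst [[31]] []) [31346] = true := by decide +kernel
theorem c26 : cycB R (subst [[31]] [0]) [3528, 28528, 31342, 56] = true := by decide +kernel
theorem c27 : cycB R (subst [[31]] [0]) [3528, 28528, 31342, 56] = true := by decide +kernel
theorem c28 : freeB R p5OT [[31]] p5Cg [0, 1, 2, 3, 4, 5] [31346, 31341, 31517, 31344, 31345, 31670] [31346, 31341, 31517, 31344, 31345, 31670] [] 56 0 [([], 56, 0)] [[0]] [0, 0, 0, 0] p5c28 = true := by decide +kernel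
theorem c29 : cycB R (subst [[31]] []) [31346] = true := by decide +kernel
theorem c30 : exclB R (subst [[31]] [0]) 31346 p5D5 = true := by decide +kernel
theorem c31 : freeB R p5OT [[31]] p5Cg [0, 1, 2, 3, 4] [31341, 31517, 31344, 31345, 31670] [31341, 31517, 31344, 31345, 31670] [] 31346 p5D5 [([], 31346, 1)] [[0]] [] p5c31 = true := by decide +kernel
theorem c32 : cycB R (subst [[31]] []) [31341] = true := by decide +kernel
theorem c33 : exclB R (subst [[31]] [0]) 31341 p5D4 = true := by decide +kernel
theorem c34 : freeB R p5OT [[31]] p5Cg [0, 1, 2, 3] [31517, 31344, 31345, 31670] [31517, 31344, 31345, 31670] [] 31341 p5D4 [([], 31341, 2)] [[0], [6]] [1] p5c34 = true := by decide +kernel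
theorem c35 : cycB R (subst [[31]] []) [31517] = true := by decide +kernel
theorem c36 : exclB R (subst [[31]] [0]) 31517 p5D3 = true := by decide +kernel
theorem c37 : freeB R p5OT [[31]] p5Cg [0, 1, 2] [31344, 31345, 31670] [31344, 31345, 31670] [] 31517 p5D3 [([], 31517, 3)] [[0], [5], [6]] [1, 2] p5c37 = true := by decide +kernel
theorem c38 : cycB R (subst [[31]] []) [31344] = true := by decide +kernel
theorem c39 : exclB R (subst [[31]] [0]) 31344 p5D2 = true := by decide +kernel
theorem c40 : freeB R p5OT [[31]] p5Cg [0, 1] [31345, 31670] [31345, 31670] [] 31344 p5D2 [([], 31344, 4)] [[0], [4], [5], [6]] [1, 2, 3] p5c40 = true := by decide +kernel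
theorem c41 : cycB R (subst [[31]] []) [31345] = true := by decide +kernel
theorem c42 : exclB R (subst [[31]] [0]) 31345 p5D1 = true := by decide +kernel
theorem c43 : freeB R p5OT [[31]] p5Cg [0] [31670] [31670] [] 31345 p5D1 [([], 31345, 5)] [[0], [1], [3], [4], [5], [6]] [1, 2, 3, 4, 5] p5c43 = true := by decide +kernel
theorem c44 : cycB R (subst [[31]] []) [31670] = true := by decide +kernel
theorem c45 : exclB R (subst [[31]] [0]) 31670 p5D0 = true := by decide +kernel
theorem c46 : freeB R p5OT [[31]] p5Cg [] [] [] [] 31670 p5D0 [([], 31670, 6)] [[0], [1], [2], [3], [4], [5], [6]] [2, 1, 3, 4, 2, 5, 6, 3, 4, 5] p5c46 = true := by decide +kernel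
theorem c47 : Model.invB R (Model.cgens (p5ch.drop 0)) p5O6 = true := by decide +kernel
theorem c48 : Model.invB R (Model.cgens (p5ch.drop 1)) p5O5 = true := by decide +kernel
theorem c49 : Model.invB R (Model.cgens (p5ch.drop 2)) p5O4 = true := by decide +kernel
theorem c50 : Model.invB R (Model.cgens (p5ch.drop 3)) p5O3 = true := by decide +kernel
theorem c51 : Model.invB R (Model.cgens (p5ch.drop 4)) p5O2 = true := by decide +kernel
theorem c52 : Model.invB R (Model.cgens (p5ch.drop 5)) p5O1 = true := by decide +kernel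
theorem c53 : Model.invB R (Model.cgens (p5ch.drop 6)) p5O0 = true := by decide +kernel
theorem c54 : pairsB R [2, 20380, 6320, 1, 0] (((p5Cg.flatMap fun w => [[31]].map fun y => (w ++ y, y ++ w)).drop 0).take 7) = true := by decide +kernel
theorem c55 : neB R [31] [] 0 31343 0 = true := by decide +kernel
theorem c56 : pairsB R [2, 20380, 6320, 1, 0] ((r5E.drop 0).take 21) = true := by decide +kernel
theorem c57 : neB R [0] [1] 3 3 168 = true := by decide +kernel
theorem c58 : pairsB R [2, 20380, 6320, 1, 0] ((x5E.drop 0).take 15) = true := by decide +kernel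
theorem c59 : pairsB R [2, 20380, 6320, 1, 0] ((j5E.drop 0).take 5) = true := by decide +kernel
theorem c60 : pairsB R [2, 20380, 6320, 1, 0] ((n5E.drop 0).take 8) = true := by decide +kernel
theorem c61 : Model.fixP R [3, 1, 0] [[34, 34, 34]] = true := by decide +kernel
theorem c62 : Model.growP R [[34, 34, 34]] [0] 5 2 = true := by decide +kernel
theorem c63 : Model.fixP R [1, 0] [[34, 34, 34], [36, 36, 33, 34], [33, 34, 36, 36], [33, 33, 36, 35, 33]] = true := by decide +kernel
theorem c64 : Model.growP R [[34, 34, 34], [36, 36, 33, 34], [33, 34, 36, 36], [33, 33, 36, 35, 33]] [1, 2, 3, 2, 3, 1] 3 20 = true := by decide +kernel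
theorem c65 : Model.fixP R [0] [[34, 34, 34], [36, 36, 33, 34], [36, 33, 36, 35], [35, 34, 35, 33, 33]] = true := by decide +kernel
theorem c66 : Model.growP R [[34, 34, 34], [36, 36, 33, 34], [36, 33, 36, 35], [35, 34, 35, 33, 33]] [2] 1 2 = true := by decide +kernel
theorem c67 : Model.fixP R [] [[33], [34], [35], [36]] = true := by decide +kernel
theorem c68 : Model.growP R [[33], [34], [35], [36]] [0, 1, 2, 0, 1, 3, 0, 1] 0 60 = true := by decide +kernel
theorem c69 : Model.fixP R [31512, 31658, 3716, 31335, 28716, 31517, 31344, 31345, 31670] [[29, 30, 30, 30, 30, 30, 30, 30]] = true := by decide +kernel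
theorem c70 : Model.growP R [[29, 30, 30, 30, 30, 30, 30, 30]] [0] 204 2 = true := by decide +kernel
theorem c71 : Model.fixP R [31658, 3716, 31335, 28716, 31517, 31344, 31345, 31670] [[30, 30, 30, 29, 30, 30, 30, 30], [29, 30, 30, 30, 30, 30, 30, 30]] = true := by decide +kernel
theorem c72 : Model.growP R [[30, 30, 30, 29, 30, 30, 30, 30], [29, 30, 30, 30, 30, 30, 30, 30]] [0, 1] 31512 3 = true := by decide +kernel
theorem c73 : Model.fixP R [3716, 31335, 28716, 31517, 31344, 31345, 31670] [[29, 30, 29, 30], [30, 29, 30, 29, 30, 29], [30, 30, 29, 29, 29, 30, 29, 29]] = true := by decide +kernel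
theorem c74 : Model.growP R [[29, 30, 29, 30], [30, 29, 30, 29, 30, 29], [30, 30, 29, 29, 29, 30, 29, 29]] [0, 2] 31658 4 = true := by decide +kernel
theorem c75 : Model.fixP R [31335, 28716, 31517, 31344, 31345, 31670] [[29, 30, 29, 30], [30, 29, 30, 29, 29, 29], [30, 29, 30, 29, 30, 29]] = true := by decide +kernel
theorem c76 : Model.growP R [[29, 30, 29, 30], [30, 29, 30, 29, 29, 29], [30, 29, 30, 29, 30, 29]] [1, 1, 0, 0] 3716 5 = true := by decide +kernel
theorem c77 : Model.fixP R [28716, 31517, 31344, 31345, 31670] [[29, 30], [30, 30, 30], [29, 29, 30, 30]] = true := by decide +kernel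
theorem c78 : Model.growP R [[29, 30], [30, 30, 30], [29, 29, 30, 30]] [0, 1, 2] 31335 6 = true := by decide +kernel
theorem c79 : Model.fixP R [31517, 31344, 31345, 31670] [[29], [30]] = true := by decide +kernel
theorem c80 : Model.growP R [[29], [30]] [0, 0, 0, 0, 0, 0] 28716 7 = true := by decide +kernel
theorem c81 : Model.fixP R [31344, 31345, 31670] [[27], [28]] = true := by decide +kernel
theorem c82 : Model.growP R [[27], [28]] [0, 1, 0, 1, 0, 1, 0, 1, 0, 1, 0, 1, 0, 0, 1] 31517 288 = true := by decide +kernel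
theorem c83 : Model.fixP R [31345, 31670] [[25], [26]] = true := by decide +kernel
theorem c84 : Model.growP R [[25], [26]] [0, 1, 0, 1, 0, 1, 0, 1, 0, 1, 0, 1, 0, 1, 0, 1, 0, 1, 0, 1] 31344 3159 = true := by decide +kernel
theorem c85 : Model.fixP R [31670] [[23], [24]] = true := by decide +kernel
theorem c86 : Model.growP R [[23], [24]] [0, 1, 0, 1, 0, 1, 0, 1, 0, 1, 0, 1, 0, 1, 0, 1, 0, 1, 0, 1, 0, 1, 0, 1, 0, 1] 31345 28160 = true := by decide +kernel
theorem c87 : Model.fixP R [] [[10], [11]] = true := by decide +kernel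
theorem c88 : Model.growP R [[10], [11]] [0, 0, 1, 0, 1, 0, 1, 0, 1, 0, 1, 0, 1, 0, 1, 0, 1, 0, 1, 0, 1, 0, 1, 0, 1, 0, 1, 0] 31670 31671 = true := by decide +kernel
theorem c89 : cycB R (subst [[37]] []) [31670] = true := by decide +kernel
theorem c90 : cycB R (subst [[37]] []) [31345] = true := by decide +kernel
theorem c91 : cycB R (subst [[37]] []) [31344] = true := by decide +kernel
theorem c92 : cycB R (subst [[37]] []) [31517] = true := by decide +kernel
theorem c93 : cycB R (subst [[37]] [0]) [204, 31512, 31658, 3716, 31335, 28716] = true := by decide +kernel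
theorem c94 : cycB R (subst [[37]] [0]) [204, 31512, 31658, 3716, 31335, 28716] = true := by decide +kernel
theorem c95 : freeB R p7OT [[37]] p7Cg [0, 1, 2, 3] [31517, 31344, 31345, 31670] [31517, 31344, 31345, 31670] [] 28716 0 [([], 28716, 0)] [[0]] [0, 0, 0, 0, 0, 0] p7c95 = true := by decide +kernel
theorem c96 : cycB R (subst [[37]] []) [31517] = true := by decide +kernel
theorem c97 : exclB R (subst [[37]] [0]) 31517 p7D3 = true := by decide +kernel
theorem c98 : freeB R p7OT [[37]] p7Cg [0, 1, 2] [31344, 31345, 31670] [31344, 31345, 31670] [] 31517 p7D3 [([], 31517, 1)] [[0]] [] p7c98 = true := by decide +kernel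
theorem c99 : cycB R (subst [[37]] []) [31344] = true := by decide +kernel
theorem c100 : exclB R (subst [[37]] [0]) 31344 p7D2 = true := by decide +kernel
theorem c101 : freeB R p7OT [[37]] p7Cg [0, 1] [31345, 31670] [31345, 31670] [] 31344 p7D2 [([], 31344, 2)] [[0], [4]] [1] p7c101 = true := by decide +kernel
theorem c102 : cycB R (subst [[37]] []) [31345] = true := by decide +kernel
theorem c103 : exclB R (subst [[37]] [0]) 31345 p7D1 = true := by decide +kernel
theorem c104 : freeB R p7OT [[37]] p7Cg [0] [31670] [31670] [] 31345 p7D1 [([], 31345, 3)] [[0], [1], [3], [4]] [1, 2, 3] p7c104 = true := by decide +kernel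
theorem c105 : cycB R (subst [[37]] []) [31670] = true := by decide +kernel
theorem c106 : exclB R (subst [[37]] [0]) 31670 p7D0 = true := by decide +kernel
theorem c107 : freeB R p7OT [[37]] p7Cg [] [] [] [] 31670 p7D0 [([], 31670, 4)] [[0], [1], [2], [3], [4]] [2, 1, 3, 4, 2, 3] p7c107 = true := by decide +kernel
theorem c108 : Model.invB R (Model.cgens (p7ch.drop 0)) p7O4 = true := by decide +kernel
theorem c109 : Model.invB R (Model.cgens (p7ch.drop 1)) p7O3 = true := by decide +kernel
theorem c110 : Model.invB R (Model.cgens (p7ch.drop 2)) p7O2 = true := by decide +kernel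
theorem c111 : Model.invB R (Model.cgens (p7ch.drop 3)) p7O1 = true := by decide +kernel
theorem c112 : Model.invB R (Model.cgens (p7ch.drop 4)) p7O0 = true := by decide +kernel
theorem c113 : pairsB R [2, 20380, 6320, 1, 0] (((p7Cg.flatMap fun w => [[37]].map fun y => (w ++ y, y ++ w)).drop 0).take 5) = true := by decide +kernel
theorem c114 : neB R [37] [] 0 31546 0 = true := by decide +kernel
theorem c115 : pairsB R [2, 20380, 6320, 1, 0] ((r7E.drop 0).take 15) = true := by decide +kernel
theorem c116 : neB R [0] [1] 3 3 168 = true := by decide +kernel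
theorem c117 : pairsB R [2, 20380, 6320, 1, 0] ((x7E.drop 0).take 6) = true := by decide +kernel
theorem c118 : Model.fixP R [632, 31611, 3404, 6304, 28404, 31345, 31670] [[41, 41, 42, 42, 41, 42, 42, 41, 42, 41, 42, 42, 42, 41]] = true := by decide +kernel
theorem c119 : Model.growP R [[41, 41, 42, 42, 41, 42, 42, 41, 42, 41, 42, 42, 42, 41]] [0, 0] 30241 3 = true := by decide +kernel
theorem c120 : Model.fixP R [31611, 3404, 6304, 28404, 31345, 31670] [[42, 42, 42, 41, 41, 41, 41, 42, 42, 42, 41, 41], [41, 41, 41, 42, 41, 41, 42, 41, 41, 42, 41, 42], [42, 41, 41, 41, 42, 41, 41, 41, 41, 42, 42, 41, 41]] = true := by decide +kernel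
theorem c121 : Model.growP R [[42, 42, 42, 41, 41, 41, 41, 42, 42, 42, 41, 41], [41, 41, 41, 42, 41, 41, 42, 41, 41, 42, 41, 42], [42, 41, 41, 41, 42, 41, 41, 41, 41, 42, 42, 41, 41]] [0, 2, 0, 1] 632 8 = true := by decide +kernel
theorem c122 : Model.fixP R [3404, 6304, 28404, 31345, 31670] [[41, 41], [42, 41, 42, 41, 41, 42], [42, 42, 42, 41, 41, 42, 42, 42], [41, 42, 42, 42, 42, 42, 41, 42, 41]] = true := by decide +kernel
theorem c123 : Model.growP R [[41, 41], [42, 41, 42, 41, 41, 42], [42, 42, 42, 41, 41, 42, 42, 42], [41, 42, 42, 42, 42, 42, 41, 42, 41]] [0, 1, 3, 0, 1, 3, 0] 31611 30 = true := by decide +kernel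
theorem c124 : Model.fixP R [6304, 28404, 31345, 31670] [[41], [42]] = true := by decide +kernel
theorem c125 : Model.growP R [[41], [42]] [0, 1, 0, 1, 0, 1, 0, 1, 0, 1, 1, 0, 1] 3404 81 = true := by decide +kernel
theorem c126 : Model.fixP R [28404, 31345, 31670] [[39], [40]] = true := by decide +kernel
theorem c127 : Model.growP R [[39], [40]] [0, 1, 0, 1, 0, 1, 0, 1, 0, 1, 0, 1, 1, 0, 0] 6304 224 = true := by decide +kernel
theorem c128 : Model.fixP R [31345, 31670] [[25], [26]] = true := by decide +kernel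
theorem c129 : Model.growP R [[25], [26]] [0, 1, 0, 1, 0, 1, 0, 1, 0, 1, 0, 1, 0, 1, 0, 0] 28404 351 = true := by decide +kernel
theorem c130 : Model.fixP R [31670] [[23], [24]] = true := by decide +kernel
theorem c131 : Model.growP R [[23], [24]] [0, 1, 0, 1, 0, 1, 0, 1, 0, 1, 0, 1, 0, 1, 0, 1, 0, 1, 0, 1, 0, 1, 0, 1, 0, 1] 31345 28160 = true := by decide +kernel
theorem c132 : Model.fixP R [] [[10], [11]] = true := by decide +kernel
theorem c133 : Model.growP R [[10], [11]] [0, 0, 1, 0, 1, 0, 1, 0, 1, 0, 1, 0, 1, 0, 1, 0, 1, 0, 1, 0, 1, 0, 1, 0, 1, 0, 1, 0] 31670 31671 = true := by decide +kernel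
theorem c134 : cycB R (subst [[43]] []) [31670] = true := by decide +kernel
theorem c135 : cycB R (subst [[43]] []) [31345] = true := by decide +kernel
theorem c136 : cycB R (subst [[43]] [0]) [1959, 31266, 30241, 632, 31611, 3404, 6304, 28404] = true := by decide +kernel
theorem c137 : cycB R (subst [[43]] [0]) [1959, 31266, 30241, 632, 31611, 3404, 6304, 28404] = true := by decide +kernel
theorem c138 : allL (leafB R p13OT (subst [[43]] [0]) [2, 3, 4, 5, 6, 7, 8, 9] [1959, 31266, 30241, 632, 31611, 3404, 6304, 28404] [31345, 31670] [31345, 31670]) p13L138 = true := by decide +kernel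
theorem c139 : freeB R p13OT [[43]] p13Cg [0, 1] [31345, 31670] [31345, 31670] [] 28404 0 [([], 28404, 3)] [[0]] [0, 0, 0, 0, 0, 0, 0, 0, 0, 0, 0, 0] p13c139 = true := by decide +kernel
theorem c140 : cycB R (subst [[43]] []) [31345] = true := by decide +kernel
theorem c141 : exclB R (subst [[43]] [0]) 31345 p13D1 = true := by decide +kernel
theorem c142 : freeB R p13OT [[43]] p13Cg [0] [31670] [31670] [] 31345 p13D1 [([], 31345, 4)] [[0], [1]] [1] p13c142 = true := by decide +kernel
theorem c143 : cycB R (subst [[43]] []) [31670] = true := by decide +kernel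
theorem c144 : exclB R (subst [[43]] [0]) 31670 p13D0 = true := by decide +kernel
theorem c145 : freeB R p13OT [[43]] p13Cg [] [] [] [] 31670 p13D0 [([], 31670, 5)] [[0], [1], [2]] [2, 1] p13c145 = true := by decide +kernel
theorem c146 : Model.invB R (Model.cgens (p13ch.drop 0)) p13O5 = true := by decide +kernel
theorem c147 : Model.invB R (Model.cgens (p13ch.drop 1)) p13O4 = true := by decide +kernel
theorem c148 : Model.invB R (Model.cgens (p13ch.drop 2)) p13O3 = true := by decide +kernel
theorem c149 : Model.invB R (Model.cgens (p13ch.drop 7)) p13O2 = true := by decide +kernel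
theorem c150 : Model.invB R (Model.cgens (p13ch.drop 3)) p13O1 = true := by decide +kernel
theorem c151 : Model.invB R (Model.cgens (p13ch.drop 3)) p13O0 = true := by decide +kernel
theorem c152 : pairsB R [2, 20380, 6320, 1, 0] (((p13Cg.flatMap fun w => [[43]].map fun y => (w ++ y, y ++ w)).drop 0).take 3) = true := by decide +kernel
theorem c153 : neB R [43] [] 0 580 0 = true := by decide +kernel
theorem c154 : pairsB R [2, 20380, 6320, 1, 0] ((r13E.drop 0).take 9) = true := by decide +kernel
theorem c155 : neB R [0] [1] 3 3 168 = true := by decide +kernel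
theorem c156 : pairsB R [2, 20380, 6320, 1, 0] ((x13E.drop 0).take 1) = true := by decide +kernel
theorem c157 : Model.fixP R [58, 959, 28566, 10508, 8880, 29925, 30485, 31344, 31670] [[53, 51, 53, 51, 53, 51]] = true := by decide +kernel
theorem c158 : Model.growP R [[53, 51, 53, 51, 53, 51]] [0] 1335 2 = true := by decide +kernel
theorem c159 : Model.fixP R [959, 28566, 10508, 8880, 29925, 30485, 31344, 31670] [[52, 51, 52, 51, 52, 51], [53, 51, 53, 51, 53, 51]] = true := by decide +kernel
theorem c160 : Model.growP R [[52, 51, 52, 51, 52, 51], [53, 51, 53, 51, 53, 51]] [0] 58 2 = true := by decide +kernel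
theorem c161 : Model.fixP R [28566, 10508, 8880, 29925, 30485, 31344, 31670] [[52, 51, 52, 51, 52, 51], [53, 51, 53, 51, 53, 51], [52, 53, 52, 53, 51, 53, 53, 51]] = true := by decide +kernel
theorem c162 : Model.growP R [[52, 51, 52, 51, 52, 51], [53, 51, 53, 51, 53, 51], [52, 53, 52, 53, 51, 53, 53, 51]] [2, 2] 959 3 = true := by decide +kernel
theorem c163 : Model.fixP R [10508, 8880, 29925, 30485, 31344, 31670] [[51, 51, 53, 51], [51, 52, 51, 51, 51], [51, 51, 52, 51, 52], [53, 51, 51, 53, 52]] = true := by decide +kernel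
theorem c164 : Model.growP R [[51, 51, 53, 51], [51, 52, 51, 51, 51], [51, 51, 52, 51, 52], [53, 51, 51, 53, 52]] [0, 1, 0] 28566 6 = true := by decide +kernel
theorem c165 : Model.fixP R [8880, 29925, 30485, 31344, 31670] [[51], [52], [53]] = true := by decide +kernel
theorem c166 : Model.growP R [[51], [52], [53]] [0, 2, 0, 1, 2, 0, 1, 0] 10508 32 = true := by decide +kernel
theorem c167 : Model.fixP R [29925, 30485, 31344, 31670] [[49], [50]] = true := by decide +kernel
theorem c168 : Model.growP R [[49], [50]] [0, 1, 0, 0, 1, 0, 1, 0, 1, 0, 1, 0, 1, 0] 8880 128 = true := by decide +kernel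
theorem c169 : Model.fixP R [30485, 31344, 31670] [[47], [48]] = true := by decide +kernel
theorem c170 : Model.growP R [[47], [48]] [0, 1, 0, 1, 0, 1, 0, 1, 0, 1, 0, 1, 0, 0] 29925 180 = true := by decide +kernel
theorem c171 : Model.fixP R [31344, 31670] [[45], [46]] = true := by decide +kernel
theorem c172 : Model.growP R [[45], [46]] [0, 1, 0, 1, 0, 1, 0, 1, 0, 1, 0, 1, 0, 1, 0, 1, 0] 30485 693 = true := by decide +kernel
theorem c173 : Model.fixP R [31670] [[23], [24]] = true := by decide +kernel
theorem c174 : Model.growP R [[23], [24]] [0, 1, 0, 1, 0, 1, 0, 1, 0, 1, 0, 1, 0, 1, 0, 1, 0, 1, 0, 1, 0] 31344 3510 = true := by decide +kernel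
theorem c175 : Model.fixP R [] [[10], [11]] = true := by decide +kernel
theorem c176 : Model.growP R [[10], [11]] [0, 0, 1, 0, 1, 0, 1, 0, 1, 0, 1, 0, 1, 0, 1, 0, 1, 0, 1, 0, 1, 0, 1, 0, 1, 0, 1, 0] 31670 31671 = true := by decide +kernel
theorem c177 : cycB R (subst [[54]] []) [31670] = true := by decide +kernel
theorem c178 : cycB R (subst [[54]] []) [31344] = true := by decide +kernel
theorem c179 : cycB R (subst [[54]] [0]) [959, 28566, 10508, 8880, 29925, 30485] = true := by decide +kernel
theorem c180 : cycB R (subst [[54]] []) [58] = true := by decide +kernel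
theorem c181 : cycB R (subst [[54]] []) [1335] = true := by decide +kernel
theorem c182 : cycB R (subst [[54]] []) [1335] = true := by decide +kernel
theorem c183 : freeB R p11OT [[54]] p11Cg [0, 1, 2, 3, 4, 5, 6, 7, 8] [58, 959, 28566, 10508, 8880, 29925, 30485, 31344, 31670] [58, 959, 28566, 10508, 8880, 29925, 30485, 31344, 31670] [] 1335 0 [([], 1335, 0)] [[1]] [0] p11c183 = true := by decide +kernel
theorem c184 : cycB R (subst [[54]] []) [58] = true := by decide +kernel
theorem c185 : freeB R p11OT [[54]] p11Cg [0, 1, 2, 3, 4, 5, 6, 7] [959, 28566, 10508, 8880, 29925, 30485, 31344, 31670] [959, 28566, 10508, 8880, 29925, 30485, 31344, 31670] [] 58 0 [([], 58, 1)] [[1], [2]] [1] p11c185 = true := by decide +kernel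
theorem c186 : cycB R (subst [[54]] [0]) [959, 28566, 10508, 8880, 29925, 30485] = true := by decide +kernel
theorem c187 : allL (leafB R p11OT (subst [[54]] [0]) [0, 1, 2, 3, 4, 5, 6, 7] [959, 28566, 10508, 8880, 29925, 30485] [31344, 31670] [31344, 31670]) p11L187 = true := by decide +kernel
theorem c188 : allL (leafB R p11OT (subst [[54]] [0]) [0, 1, 2, 3, 4, 5, 6, 7] [959, 28566, 10508, 8880, 29925, 30485] [31344, 31670] [31344, 31670]) p11L188 = true := by decide +kernel
theorem c189 : freeB R p11OT [[54]] p11Cg [0, 1] [31344, 31670] [31344, 31670] [] 30485 0 [([], 30485, 4)] [[0], [1], [2]] [0, 0, 0, 0, 0, 0, 0, 0, 0, 0] p11c189 = true := by decide +kernel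
theorem c190 : cycB R (subst [[54]] []) [31344] = true := by decide +kernel
theorem c191 : exclB R (subst [[54]] [0]) 31344 p11D1 = true := by decide +kernel
theorem c192 : freeB R p11OT [[54]] p11Cg [0] [31670] [31670] [] 31344 p11D1 [([], 31344, 5)] [[0], [1], [2]] [] p11c192 = true := by decide +kernel
theorem c193 : cycB R (subst [[54]] []) [31670] = true := by decide +kernel
theorem c194 : allL (leafB R p11OT (subst [[54]] [0]) [0, 1, 2, 3, 4, 5, 6, 7] [959, 28566, 10508, 8880, 29925, 30485] [31344, 31670] [31670, 31344]) p11L194 = true := by decide +kernel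
theorem c195 : allL (leafB R p11OT (subst [[54]] [0]) [0, 1, 2, 3, 4, 5, 6, 7] [959, 28566, 10508, 8880, 29925, 30485] [31344, 31670] [31670, 31344]) p11L195 = true := by decide +kernel
theorem c196 : allL (leafB R p11OT (subst [[54]] [0]) [0, 1, 2, 3, 4, 5, 6, 7] [959, 28566, 10508, 8880, 29925, 30485] [31344, 31670] [31670, 31344]) p11L196 = true := by decide +kernel
theorem c197 : allL (leafB R p11OT (subst [[54]] [0]) [0, 1, 2, 3, 4, 5, 6, 7] [959, 28566, 10508, 8880, 29925, 30485] [31344, 31670] [31670, 31344]) p11L197 = true := by decide +kernel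
theorem c198 : allL (leafB R p11OT (subst [[54]] [0]) [0, 1, 2, 3, 4, 5, 6, 7] [959, 28566, 10508, 8880, 29925, 30485] [31344, 31670] [31670, 31344]) p11L198 = true := by decide +kernel
theorem c199 : allL (leafB R p11OT (subst [[54]] [0]) [0, 1, 2, 3, 4, 5, 6, 7] [959, 28566, 10508, 8880, 29925, 30485] [31344, 31670] [31670, 31344]) p11L199 = true := by decide +kernel
theorem c200 : allL (leafB R p11OT (subst [[54]] [0]) [0, 1, 2, 3, 4, 5, 6, 7] [959, 28566, 10508, 8880, 29925, 30485] [31344, 31670] [31670, 31344]) p11L200 = true := by decide +kernel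
theorem c201 : freeB R p11OT [[54]] p11Cg [0, 1] [31344, 31670] [31670, 31344] [23, 23, 24, 24, 23, 24, 23, 24, 23, 24, 24, 24, 10, 10, 10, 10, 11, 10, 11, 10, 11, 10, 10, 10, 10] 30485 0 [([], 30485, 4)] [[0], [1], [2]] [0, 0, 0, 0, 0, 0, 0, 0, 0, 0] p11c201 = true := by decide +kernel
theorem c202 : cycB R (subst [[54]] []) [31670] = true := by decide +kernel
theorem c203 : freeB R p11OT [[54]] p11Cg [0] [31670] [31344] [10, 10, 10, 10, 11, 10, 11, 10, 11, 10, 10, 10, 10] 31344 p11D1 [([], 31344, 5)] [[0], [1], [2]] [] p11c203 = true := by decide +kernel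
theorem c204 : cycB R (subst [[54]] []) [31344] = true := by decide +kernel
theorem c205 : exclB R (subst [[54]] [0]) 31670 p11D0 = true := by decide +kernel
theorem c206 : freeB R p11OT [[54]] p11Cg [] [] [] [] 31670 p11D0 [([], 31670, 7)] [[0], [1], [2]] [] p11c206 = true := by decide +kernel
theorem c207 : Model.invB R (Model.cgens (p11ch.drop 0)) p11O7 = true := by decide +kernel
theorem c208 : Model.invB R (Model.cgens (p11ch.drop 5)) p11O6 = true := by decide +kernel
theorem c209 : Model.invB R (Model.cgens (p11ch.drop 1)) p11O5 = true := by decide +kernel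
theorem c210 : Model.invB R (Model.cgens (p11ch.drop 2)) p11O4 = true := by decide +kernel
theorem c211 : Model.invB R (Model.cgens (p11ch.drop 3)) p11O3 = true := by decide +kernel
theorem c212 : Model.invB R (Model.cgens (p11ch.drop 3)) p11O2 = true := by decide +kernel
theorem c213 : Model.invB R (Model.cgens (p11ch.drop 8)) p11O1 = true := by decide +kernel
theorem c214 : Model.invB R (Model.cgens (p11ch.drop 9)) p11O0 = true := by decide +kernel
theorem c215 : pairsB R [2, 20380, 6320, 1, 0] (((p11Cg.flatMap fun w => [[54]].map fun y => (w ++ y, y ++ w)).drop 0).take 3) = true := by decide +kernel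
theorem c216 : neB R [54] [] 0 677 0 = true := by decide +kernel
theorem c217 : pairsB R [2, 20380, 6320, 1, 0] ((r11E.drop 0).take 9) = true := by decide +kernel
theorem c218 : neB R [0] [2] 3 3 58 = true := by decide +kernel
theorem c219 : pairsB R [2, 20380, 6320, 1, 0] ((w11E.drop 0).take 3) = true := by decide +kernel
theorem c220 : Model.fixP R [20380, 6320, 1, 0] [[17, 18, 16, 16, 17, 16, 16], [16, 18, 18, 17, 16, 16, 17, 16, 17], [17, 18, 17, 16, 16, 17, 18, 17, 16, 16]] = true := by decide +kernel
theorem c221 : Model.growP R [[17, 18, 16, 16, 17, 16, 16], [16, 18, 18, 17, 16, 16, 17, 16, 17], [17, 18, 17, 16, 16, 17, 18, 17, 16, 16]] [0, 1, 2, 0, 1, 2] 17125 27 = true := by decide +kernel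
theorem c222 : Model.fixP R [6320, 1, 0] [[16], [17], [18]] = true := by decide +kernel
theorem c223 : Model.growP R [[16], [17], [18]] [0, 1, 2, 0, 1, 2, 0, 1, 2, 0, 1, 2, 0, 1, 2, 0, 1, 0, 0] 20380 7776 = true := by decide +kernel
theorem c224 : Model.fixP R [1, 0] [[14], [15]] = true := by decide +kernel
theorem c225 : Model.growP R [[14], [15]] [0, 1, 0, 1, 0, 1, 0, 1, 0, 1, 0, 1, 0, 1, 0, 1, 0, 1, 0, 1, 0, 1, 0, 1, 1] 6320 21840 = true := by decide +kernel
theorem c226 : Model.fixP R [0] [[12], [13]] = true := by decide +kernel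
theorem c227 : Model.growP R [[12], [13]] [0, 1, 0, 1, 0, 1, 0, 1, 0, 1, 0, 1, 0, 1, 0, 1, 0, 1, 0, 1, 0, 1, 0, 1, 0, 0] 1 28160 = true := by decide +kernel
theorem c228 : Model.fixP R [] [[10], [11]] = true := by decide +kernel
theorem c229 : Model.growP R [[10], [11]] [0, 0, 0, 1, 0, 1, 0, 1, 0, 1, 0, 1, 0, 1, 0, 1, 0, 1, 0, 1, 0, 1, 0, 1, 0, 1, 0, 1, 0] 0 31671 = true := by decide +kernel
theorem c230 : cycB R (subst [[57]] [0]) [2805, 10112, 14954, 26572, 18042, 1477, 17545, 17125, 20380, 6320, 1, 0] = true := by decide +kernel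
end H6M.SF23
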